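import Cfsg.Agent.Lib.AlmostCyclic.Basic
import Cfsg.Agent.Lib.PGroups.CyclicIndex
import Mathlib.GroupTheory.SpecificGroups.Cyclic

/-!
# Automorphisms of odd order of almost cyclic 2-groups (owner: helper7)

An automorphism of odd order fixes every involution, unless the group is a four-group.
-/

set_option autoImplicit false

namespace CfsgLib.AlmostCyclic.Exclusion

open Subgroup

theorem eq_of_sq_cyclic {A : Type*} [Group A] [Finite A] [IsCyclic A] {x y : A} (hx : x * x = 1) (hy : y * y = 1)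
    (hx1 : x ≠ 1) (hy1 : y ≠ 1) : x = y := by
  classical
  have := Fintype.ofFinite A
  by_contra hne
  have hsub : ({1, x, y} : Finset A) ⊆ Finset.univ.filter fun a => a ^ 2 = 1 := by
    intro a ha
    simp only [Finset.mem_insert, Finset.mem_singleton] at ha
    rcases ha with rfl | rfl | rfl <;> simp [pow_two, hx, hy]
  have h1 := (Finset.card_le_card hsub).trans (IsCyclic.card_pow_eq_one_le two_pos)
  rw [Finset.card_insert_of_notMem (by simp [Ne.symm hx1, Ne.symm hy1]), Finset.card_pair hne] at h1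
  omega

theorem pow_congr_unit {n : ℕ} {s : ℤ} {k : ℕ} (hk : Odd k) (h : ((s : ZMod (2 ^ n))) ^ k = 1) :
    (s : ZMod (2 ^ n)) = 1 := by
  let u : (ZMod (2 ^ n))ˣ := Units.ofPowEqOne (s : ZMod (2 ^ n)) k h (by rintro rfl; exact (Nat.not_even_iff_odd.2 hk) (by simp))
  have hu : orderOf u ∣ k := orderOf_dvd_of_pow_eq_one (Units.ext (by simpa [u] using h))
  have hu2 : orderOf u ∣ 2 ^ n := by
    rcases Nat.eq_zero_or_pos n with rfl | hn
    · have hs : Subsingleton (ZMod (2 ^ 0)) := by rw [pow_zero]; infer_instance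
      rw [show u = 1 from Units.ext (Subsingleton.elim _ _), orderOf_one]
      exact one_dvd _
    · refine orderOf_dvd_natCard u |>.trans ?_
      rw [Nat.card_eq_fintype_card, ZMod.card_units_eq_totient, Nat.totient_prime_pow Nat.prime_two hn]
      simp only [Nat.add_one_sub_one, mul_one]
      exact pow_dvd_pow 2 (by omega)
  have h1 : orderOf u = 1 := Nat.eq_one_of_dvd_coprimes
    ((Nat.coprime_two_left.2 hk).pow_left n) hu2 hu
  have h2 : u = 1 := orderOf_eq_one_iff.1 h1
  simpa [u] using congrArg Units.val h2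

variable {T : Type*} [Group T] [Finite T]

/-- **Fixed involutions.** -/
theorem fixed_or_four (hT : IsPGroup 2 T) (h : TwoCyc T) (β : MulAut T) (hβ : Odd (orderOf β)) {z : T}
    (hz : z * z = 1) (hz1 : z ≠ 1) : β z = z ∨ (Nat.card T = 4 ∧ ∀ x : T, x * x = 1) := by
  have : Fact (Nat.Prime 2) := ⟨Nat.prime_two⟩
  by_cases huniq : ∀ y : T, y * y = 1 → y = 1 ∨ y = z
  · exact Or.inl ((huniq (β z) (by rw [← map_mul, hz, map_one])).resolve_left
      fun e => hz1 (β.injective (e.trans (map_one β).symm)))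
  obtain ⟨C, hC, hi⟩ := h
  rcases (Nat.dvd_prime Nat.prime_two).1 hi with hi | hi
  · rw [index_eq_one] at hi
    subst hi
    have := topEquiv.isCyclic.1 hC
    refine absurd (fun y hy => ?_) huniq
    by_cases hy1 : y = 1
    · exact Or.inl hy1
    · exact Or.inr (eq_of_sq_cyclic hy hz hy1 hz1)
  obtain ⟨n, hn⟩ := IsPGroup.iff_card.1 hT
  -- an involution outside the cyclic subgroup
  obtain ⟨w, hw, hwC⟩ : ∃ w : T, w * w = 1 ∧ w ∉ C := by
    by_contra hall
    push Not at hall
    refine huniq fun y hy => ?_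
    by_cases hy1 : y = 1
    · exact Or.inl hy1
    · refine Or.inr (congrArg Subtype.val (eq_of_sq_cyclic (x := (⟨y, hall y hy⟩ : C)) (y := ⟨z, hall z hz⟩)
        (Subtype.ext hy) (Subtype.ext hz) (fun e => hy1 (congrArg Subtype.val e))
        (fun e => hz1 (congrArg Subtype.val e))))
  have hn1 : 1 ≤ n := by
    rcases Nat.eq_zero_or_pos n with rfl | h1
    · have := C.card_mul_index
      rw [hi, hn, pow_zero] at this
      omega
    · exact h1
  rcases Nat.lt_or_ge n 3 with hn3 | hn3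
  · right
    have hn2 : n = 2 := by
      by_contra hne
      have h1 : n = 1 := by omega
      subst h1
      have hc := C.card_mul_index
      rw [hi, hn] at hc
      have hC1 : C = ⊥ := card_eq_one.1 (by omega)
      refine huniq fun y hy => ?_
      by_contra hcon
      push Not at hcon
      have hmem : y * z ∈ C := (mul_mem_iff_of_index_two hi).2
        ⟨fun h => absurd (hC1 ▸ h : y ∈ (⊥ : Subgroup T)) (by simpa using hcon.1),
          fun h => absurd (hC1 ▸ h : z ∈ (⊥ : Subgroup T)) (by simpa using hz1)⟩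
      rw [hC1, mem_bot] at hmem
      exact hcon.2 (by rw [eq_inv_of_mul_eq_one_left hmem, inv_eq_of_mul_eq_one_right hz])
    subst hn2
    refine ⟨by rw [hn]; rfl, fun x => ?_⟩
    have hc := C.card_mul_index
    rw [hi, hn] at hc
    have hC2 : ∀ c ∈ C, c * c = 1 := fun c hc' => by
      have h1 := pow_card_eq_one' (x := (⟨c, hc'⟩ : C))
      rw [show Nat.card C = 2 by omega, pow_two] at h1
      exact congrArg Subtype.val h1
    by_cases hx : x ∈ C
    · exact hC2 x hx
    have hxw : x * w ∈ C := (mul_mem_iff_of_index_two hi).2 ⟨fun h => absurd h hx, fun h => absurd h hwC⟩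
    have hnC : C.Normal := normal_of_index_eq_two hi
    have hcw : w * (x * w) * w⁻¹ = x * w := by
      have h1 : w * (x * w) * w⁻¹ ∈ C := hnC.conj_mem _ hxw w
      by_cases he : x * w = 1
      · rw [he]; group
      · exact congrArg Subtype.val (eq_of_sq_cyclic (x := (⟨_, h1⟩ : C)) (y := ⟨_, hxw⟩)
          (Subtype.ext (hC2 _ h1)) (Subtype.ext (hC2 _ hxw))
          (fun e => he (conj_eq_one_iff.1 (congrArg Subtype.val e))) (fun e => he (congrArg Subtype.val e)))
    have hwi : w⁻¹ = w := inv_eq_of_mul_eq_one_right hw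
    calc x * x = (x * w) * (w * (x * w) * w⁻¹) := by
          rw [hwi]; simp only [mul_assoc, hw, mul_one]; rw [← mul_assoc w w, hw, one_mul]
      _ = (x * w) * (x * w) := by rw [hcw]
      _ = 1 := hC2 _ hxw
  left
  obtain ⟨hCn, a, rfl, ha⟩ := CfsgLib.PGroups.CyclicIndex.setup (show 2 ≤ n by omega) hn hC hi
  obtain ⟨s, hs⟩ := mem_zpowers_iff.1 (hCn.conj_mem a (mem_zpowers a) w)
  have hdec : ∀ x, x ∉ zpowers a → ∃ i : ℤ, x = a ^ i * w := fun x hx => by
    obtain ⟨i, hi'⟩ := mem_zpowers_iff.1 ((mul_mem_iff_of_index_two hi).2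
      ⟨fun h => absurd h hx, fun h => absurd h hwC⟩ : x * w ∈ zpowers a)
    exact ⟨i, by rw [hi', mul_assoc, hw, mul_one]⟩
  have hwi : w⁻¹ = w := inv_eq_of_mul_eq_one_right hw
  have hsq : ∀ i : ℤ, (a ^ i * w) * (a ^ i * w) = a ^ (i * (1 + s)) := fun i => by
    calc (a ^ i * w) * (a ^ i * w) = a ^ i * (w * a ^ i * w⁻¹) := by rw [hwi]; simp only [mul_assoc]
      _ = a ^ (i * (1 + s)) := by
          rw [← conj_zpow, ← hs, ← zpow_mul, ← zpow_add]; congr 1; ring
  have hsodd : Odd s := by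
    by_contra he
    obtain ⟨t, rfl⟩ := Int.not_odd_iff_even.1 he
    have h1 : (w * a * w⁻¹) ^ 2 ^ (n - 2) = 1 := by
      rw [← hs, ← zpow_natCast, ← zpow_mul, ← orderOf_dvd_iff_zpow_eq_one, ha]
      refine ⟨t, ?_⟩
      rw [show n - 1 = n - 2 + 1 by omega, pow_succ]
      push_cast
      ring
    rw [conj_pow, conj_eq_one_iff, ← orderOf_dvd_iff_pow_eq_one, ha,
      Nat.pow_dvd_pow_iff_le_right (by norm_num)] at h1
    omega
  -- elements of maximal order outside `⟨a⟩` lie in one cyclic subgroup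
  have hgen : ∀ x, x ∉ zpowers a → orderOf x = 2 ^ (n - 1) → ∃ i : ℤ, x = a ^ i * w ∧ Odd i ∧ a ^ (2 : ℤ) ∈ zpowers x := by
    intro x hx ho
    obtain ⟨i, rfl⟩ := hdec x hx
    have hnot : ¬ (2 : ℤ) ^ (n - 1) ∣ i * (1 + s) * 2 ^ (n - 3) := by
      intro hd
      have h1 : ((a ^ i * w) * (a ^ i * w)) ^ 2 ^ (n - 3) = 1 := by
        rw [hsq, ← zpow_natCast, ← zpow_mul, ← orderOf_dvd_iff_zpow_eq_one, ha]
        push_cast
        exact hd
      rw [← pow_two, ← pow_mul, ← pow_succ', ← orderOf_dvd_iff_pow_eq_one, ho,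
        Nat.pow_dvd_pow_iff_le_right (by norm_num)] at h1
      omega
    obtain ⟨s', hs'⟩ := hsodd
    have hiodd : Odd i := by
      by_contra he
      obtain ⟨t, rfl⟩ := Int.not_odd_iff_even.1 he
      refine hnot ⟨t * (s' + 1), ?_⟩
      rw [hs', show n - 1 = n - 3 + 1 + 1 by omega, pow_succ, pow_succ]
      ring
    have hodd2 : Odd (s' + 1) := by
      by_contra he
      obtain ⟨t, ht⟩ := Int.not_odd_iff_even.1 he
      refine hnot ⟨i * t, ?_⟩
      rw [hs', show n - 1 = n - 3 + 1 + 1 by omega, pow_succ, pow_succ]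
      linear_combination (2 * i * 2 ^ (n - 3)) * ht
    refine ⟨i, rfl, hiodd, ?_⟩
    have hco : IsCoprime (i * (s' + 1)) (orderOf a : ℤ) := by
      rw [ha]
      push_cast
      obtain ⟨j, hj⟩ := hiodd.mul hodd2
      rw [hj]
      exact IsCoprime.pow_right ⟨1, -j, by ring⟩
    obtain ⟨u, v, huv⟩ := hco
    refine ⟨2 * u, ?_⟩
    show (a ^ i * w) ^ (2 * u) = a ^ (2 : ℤ)
    rw [zpow_mul, zpow_two, hsq, ← zpow_mul, hs',
      show i * (1 + (2 * s' + 1)) * u = 2 + (orderOf a : ℤ) * (-(2 * v)) by linear_combination 2 * huv,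
      zpow_add, zpow_mul _ (orderOf a : ℤ), zpow_natCast, pow_orderOf_eq_one, one_zpow, mul_one]
  have hstab2 : ∀ γ : MulAut T, γ a ∈ zpowers a → ∀ x ∈ zpowers a, γ x ∈ zpowers a := fun γ hγ x hx => by
    obtain ⟨i, rfl⟩ := mem_zpowers_iff.1 hx
    rw [map_zpow]; exact zpow_mem hγ i
  have hmap : ∀ (γ : MulAut T) (x : T), orderOf (γ x) = orderOf x := fun γ x => MulEquiv.orderOf_eq γ x
  have hβa : β a ∈ zpowers a := by
    have h2 : β (β a) ∈ zpowers a := by
      by_contra hne2
      by_cases h1 : β a ∈ zpowers a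
      · exact hne2 (hstab2 β h1 _ h1)
      obtain ⟨i, hi1, hio, hA1⟩ := hgen _ h1 (by rw [hmap, ha])
      obtain ⟨j, hj1, hjo, -⟩ := hgen _ hne2 (by rw [hmap, hmap, ha])
      have hin : β (β a) ∈ zpowers (β a) := by
        obtain ⟨i', rfl⟩ := hio
        obtain ⟨j', rfl⟩ := hjo
        rw [hj1, show (2 * j' + 1 : ℤ) = (j' - i') * 2 + (2 * i' + 1) by ring, zpow_add, mul_assoc, ← hi1,
          mul_comm (j' - i') 2, zpow_mul]
        exact mul_mem (zpow_mem hA1 _) (mem_zpowers _)
      obtain ⟨k, hk⟩ := mem_zpowers_iff.1 hin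
      refine h1 ⟨k, β.injective ?_⟩
      show β (a ^ k) = β (β a)
      rw [map_zpow, hk]
    obtain ⟨k, hk⟩ := hβ
    have h3 : ∀ m : ℕ, (β ^ (2 * m)) a ∈ zpowers a := fun m => by
      induction m with
      | zero => simpa using mem_zpowers a
      | succ m ih =>
        rw [show 2 * (m + 1) = 2 + 2 * m by ring, pow_add, MulAut.mul_apply, pow_two]
        exact hstab2 (β * β) h2 _ ih
    have h4 := h3 (k + 1)
    have e : β ^ (2 * (k + 1)) = β := by
      rw [show 2 * (k + 1) = (2 * k + 1) + 1 by ring, pow_succ, ← hk, pow_orderOf_eq_one, one_mul]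
    rwa [e] at h4
  obtain ⟨t, ht⟩ := mem_zpowers_iff.1 hβa
  have hβt : ∀ m : ℕ, (β ^ m) a = a ^ (t ^ m) := fun m => by
    induction m with
    | zero => simp
    | succ m ih => rw [pow_succ, MulAut.mul_apply, ← ht, map_zpow, ih, ← zpow_mul, pow_succ]
  have hfixa : β a = a := by
    have h1 : ((t : ZMod (2 ^ (n - 1)))) ^ orderOf β = 1 := by
      have h2 := hβt (orderOf β)
      rw [pow_orderOf_eq_one, MulAut.one_apply] at h2
      have h3 : ((t ^ orderOf β : ℤ) : ZMod (2 ^ (n - 1))) = ((1 : ℤ) : ZMod (2 ^ (n - 1))) := by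
        rw [ZMod.intCast_eq_intCast_iff, ← ha, ← zpow_eq_zpow_iff_modEq, zpow_one]
        exact h2.symm
      simpa using h3
    have h4 := pow_congr_unit hβ h1
    rw [← ht]
    conv_rhs => rw [← zpow_one a]
    rw [zpow_eq_zpow_iff_modEq, ha, ← ZMod.intCast_eq_intCast_iff, h4, Int.cast_one]
  have hfixA : ∀ x ∈ zpowers a, β x = x := fun x hx => by
    obtain ⟨i, rfl⟩ := mem_zpowers_iff.1 hx
    rw [map_zpow, hfixa]
  have hβw : β w ∉ zpowers a := fun hm => hwC (by
    rw [← β.injective (hfixA _ hm)]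
    exact hm)
  obtain ⟨i, hi'⟩ := hdec _ hβw
  have hit : ∀ m : ℕ, (β ^ m) w = a ^ ((m : ℤ) * i) * w := fun m => by
    induction m with
    | zero => simp
    | succ m ih =>
      rw [pow_succ', MulAut.mul_apply, ih, map_mul, hfixA _ (zpow_mem (mem_zpowers a) _), hi', ← mul_assoc,
        ← zpow_add]
      congr 2
      push_cast; ring
  have h1 := hit (orderOf β)
  rw [pow_orderOf_eq_one, MulAut.one_apply] at h1
  have h2 : a ^ ((orderOf β : ℤ) * i) = 1 := mul_right_cancel (h1.symm.trans (one_mul w).symm)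
  rw [← orderOf_dvd_iff_zpow_eq_one, ha] at h2
  have h3 : a ^ i = 1 := orderOf_dvd_iff_zpow_eq_one.1 (by
    rw [ha]
    refine IsCoprime.dvd_of_dvd_mul_left ?_ h2
    exact Nat.isCoprime_iff_coprime.2 ((Nat.coprime_two_left.2 hβ).pow_left _))
  have hfixw : β w = w := by rw [hi', h3, one_mul]
  by_cases hzA : z ∈ zpowers a
  · exact hfixA z hzA
  · obtain ⟨j, rfl⟩ := hdec z hzA
    rw [map_mul, hfixA _ (zpow_mem (mem_zpowers a) _), hfixw]

/-- The version for a normalising element of odd order. -/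
theorem commute_or_four {G : Type*} [Group G] [Finite G] {T : Subgroup G} (hT : IsPGroup 2 T) (h : TwoCyc T)
    {g : G} (hg : g ∈ normalizer (T : Set G)) (hgo : Odd (orderOf g)) {z : G} (hzT : z ∈ T) (hz : z * z = 1)
    (hz1 : z ≠ 1) : g * z * g⁻¹ = z ∨ (Nat.card T = 4 ∧ ∀ x ∈ T, x * x = 1) := by
  let β : MulAut T := T.normalizerMonoidHom ⟨g, hg⟩
  have hβ : Odd (orderOf β) := by
    refine Odd.of_dvd_nat hgo ((orderOf_map_dvd T.normalizerMonoidHom (⟨g, hg⟩ : normalizer (T : Set G))).trans ?_)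
    rw [Subgroup.orderOf_mk]
  rcases fixed_or_four hT h β hβ (z := ⟨z, hzT⟩) (Subtype.ext hz) (fun e => hz1 (congrArg Subtype.val e)) with
    h1 | ⟨h1, h2⟩
  · left
    have h3 := congrArg Subtype.val h1
    simpa [β] using h3
  · exact Or.inr ⟨h1, fun x hx => congrArg Subtype.val (h2 ⟨x, hx⟩)⟩

end CfsgLib.AlmostCyclic.Exclusion
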