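import Mathlib

/-!
# The arithmetic of the semidihedral exclusion (owner: helper7)

The degree equations, regularity at the odd primes dividing the order of the centralizer, and the
2-parts leave one family of orders, with `p = 5`.
-/

set_option autoImplicit false

namespace CfsgLib.AlmostCyclic.Exclusion

theorem valuation_eq {l : ℕ} [Fact l.Prime] {Q x : ℤ} {c g u : ℕ} (hc : c ≠ 0) (hg : g ≠ 0) (hu : u ≠ 0)
    (hQ : Q ≠ 0) (hQ1 : Q - 1 ≠ 0) (hx : x ≠ 0) (hx1 : x + 1 ≠ 0) (hxQ : x + Q ≠ 0)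
    (hR : (c : ℤ) ^ 3 * ((Q - 1) * (x * (x + 1))) = (g : ℤ) * (u : ℤ) ^ 2 * (Q * (x + Q) ^ 2)) :
    3 * padicValNat l c + padicValInt l (Q - 1) + padicValInt l x + padicValInt l (x + 1) =
      padicValNat l g + 2 * padicValNat l u + padicValInt l Q + 2 * padicValInt l (x + Q) := by
  have hv := congrArg (padicValInt l) hR
  simp only [pow_succ, pow_zero, one_mul] at hv
  rw [padicValInt.mul (by simp [hc]) (by simp [hQ1, hx, hx1]), padicValInt.mul (by simp [hc]) (by simp [hc]),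
    padicValInt.mul (by simp [hc]) (by simp [hc]), padicValInt.mul hQ1 (mul_ne_zero hx hx1),
    padicValInt.mul hx hx1, padicValInt.mul (by simp [hg, hu]) (by simp [hQ, hxQ]),
    padicValInt.mul (by simp [hg]) (by simp [hu]), padicValInt.mul (by simp [hu]) (by simp [hu]),
    padicValInt.mul hQ (mul_ne_zero hxQ hxQ), padicValInt.mul hxQ hxQ, padicValInt.of_nat, padicValInt.of_nat,
    padicValInt.of_nat] at hv
  omega

theorem le_val_of_dvd {l : ℕ} [Fact l.Prime] {a b : ℤ} (h : a ∣ b) (hb : b ≠ 0) :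
    padicValInt l a ≤ padicValInt l b :=
  ((padicValInt_dvd_iff _ _).1 ((padicValInt_dvd a).trans h)).resolve_left hb

theorem val_add_of_lt {l : ℕ} [Fact l.Prime] {a b : ℤ} (ha : a ≠ 0) (_ : b ≠ 0)
    (h : padicValInt l a < padicValInt l b) : padicValInt l (a + b) = padicValInt l a := by
  have hab : a + b ≠ 0 := fun e => by
    rw [eq_neg_of_add_eq_zero_left e] at h
    simp [padicValInt] at h
  refine le_antisymm ?_ (((padicValInt_dvd_iff _ _).1 (dvd_add ((padicValInt_dvd_iff _ a).2 (Or.inr le_rfl))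
    ((padicValInt_dvd_iff _ b).2 (Or.inr h.le)))).resolve_left hab)
  by_contra hlt
  push Not at hlt
  have h1 : (l : ℤ) ^ (padicValInt l a + 1) ∣ a + b := (padicValInt_dvd_iff _ _).2 (Or.inr hlt)
  have h2 : (l : ℤ) ^ (padicValInt l a + 1) ∣ b := (padicValInt_dvd_iff _ _).2 (Or.inr h)
  have h3 := ((padicValInt_dvd_iff _ _).1 ((Int.dvd_add_left h2).1 h1)).resolve_left ha
  omega

theorem val_eq_zero_iff {l : ℕ} [Fact l.Prime] {a : ℤ} (ha : a ≠ 0) :
    padicValInt l a = 0 ↔ ¬ (l : ℤ) ∣ a := by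
  refine ⟨fun h hd => ?_, padicValInt.eq_zero_of_not_dvd⟩
  have h1 := ((padicValInt_dvd_iff 1 a).1 (by rwa [pow_one])).resolve_left ha
  omega

theorem val_neg (l : ℕ) (a : ℤ) : padicValInt l (-a) = padicValInt l a := by
  rw [padicValInt, padicValInt, Int.natAbs_neg]

theorem odd_prime_not_dvd_two {l : ℕ} (hl : l.Prime) (hl2 : l ≠ 2) : ¬ (l : ℤ) ∣ 2 := fun h =>
  hl2 ((Nat.prime_dvd_prime_iff_eq hl Nat.prime_two).1 (by exact_mod_cast h))

/-- The valuations of two odd divisors agree up to one factor three. -/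
theorem natAbs_cases {D N : ℕ} (hD : D ≠ 0) (hN : N ≠ 0)
    (h : ∀ l : ℕ, l.Prime → padicValNat l D = padicValNat l N ∨ (l = 3 ∧ padicValNat l N = padicValNat l D + 1)) :
    N = D ∨ (N = 3 * D ∧ padicValNat 3 N = padicValNat 3 D + 1) := by
  rcases h 3 Nat.prime_three with h3 | ⟨-, h3⟩
  · refine Or.inl ((Nat.eq_iff_prime_padicValNat_eq N D hN hD).2 fun l hl => ?_)
    rcases h l hl with e | ⟨rfl, -⟩
    · exact e.symm
    · exact h3.symm
  · refine Or.inr ⟨(Nat.eq_iff_prime_padicValNat_eq N (3 * D) hN (by omega)).2 fun l hl => ?_, h3⟩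
    have := Fact.mk hl
    rw [padicValNat.mul three_ne_zero hD]
    by_cases hl3 : l = 3
    · subst hl3
      rw [padicValNat_self]
      omega
    · rcases h l hl with e | ⟨e, -⟩
      · rw [padicValNat.eq_zero_of_not_dvd (fun hd => hl3 ((Nat.prime_dvd_prime_iff_eq hl Nat.prime_three).1 hd))]
        omega
      · exact absurd e hl3

/-- **The remaining family.** -/
theorem arith {p : ℕ} [Fact p.Prime] (hp2 : p ≠ 2) {m : ℕ} {Q x a : ℤ} (hQ : Q = p ∨ Q = -(p : ℤ))
    (hQ4 : (4 : ℤ) ∣ Q + 1) (hx : x ≠ 0) (hx1 : x + 1 ≠ 0) (hax : a ≠ x) (h8 : (8 : ℤ) ∣ x + Q)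
    (hE : Q ^ 2 * x * (1 + x - a) + a * x = (x + Q ^ 2) * (a * (1 + x - a)))
    {c g u : ℕ} (hc : c ≠ 0) (hg : g ≠ 0) (hu : u ≠ 0)
    (hR : (c : ℤ) ^ 3 * ((Q - 1) * (x * (x + 1))) = (g : ℤ) * (u : ℤ) ^ 2 * (Q * (x + Q) ^ 2))
    (h2c : padicValNat 2 c = m + 4) (h2g : padicValNat 2 g = m + 4) (h2u : padicValNat 2 u = 2)
    (hN : 2 * (p * (p ^ 2 - 1)) ∣ c)
    (hle : ∀ l : ℕ, l.Prime → padicValNat l u ≤ padicValNat l c)
    (hF1 : ∀ l : ℕ, l.Prime → l ≠ 2 → l ∣ c → padicValNat l g = padicValNat l c ∨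
      (l = 3 ∧ padicValNat l g = padicValNat l c + 1 ∧ padicValNat l u = padicValNat l c))
    (hF2 : ∀ l : ℕ, l.Prime → l ≠ 2 → (l = p ∨ (l : ℤ) ∣ Q + 1) → padicValNat l u < padicValNat l c) :
    p = 5 ∧ g * u ^ 2 * 400 = 357 * c ^ 3 ∧ padicValNat 3 g = padicValNat 3 c + 1 ∧
      padicValNat 3 u = padicValNat 3 c ∧ m = 0 := by
  have hp := (Fact.out : p.Prime)
  have hp3 : 3 ≤ p := by have := hp.two_le; omega
  have hQ0 : Q ≠ 0 := by rcases hQ with rfl | rfl <;> simp [hp.ne_zero]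
  have hQ1 : Q - 1 ≠ 0 := fun e => by rcases hQ with rfl | rfl <;> omega
  have hQp1 : Q + 1 ≠ 0 := fun e => by rcases hQ with rfl | rfl <;> omega
  have hxQ : x + Q ≠ 0 := fun e => by
    rw [e] at hR
    simp [hc, hQ1, hx, hx1] at hR
  have hQabs : Q.natAbs = p := by rcases hQ with rfl | rfl <;> simp
  have hsq : Q ^ 2 = ((p ^ 2 : ℕ) : ℤ) := by rcases hQ with rfl | rfl <;> push_cast <;> ring
  have hdiv : ∀ l : ℕ, (l : ℤ) ∣ Q ^ 2 - 1 → l ∣ c := fun l hd => by
    refine dvd_trans ?_ hN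
    refine dvd_mul_of_dvd_right (dvd_mul_of_dvd_right ?_ p) 2
    rw [hsq] at hd
    have h1 : 1 ≤ p ^ 2 := Nat.one_le_pow _ _ hp.pos
    rw [← Nat.cast_one (R := ℤ), ← Nat.cast_sub h1] at hd
    exact_mod_cast hd
  have hVQ : ∀ l : ℕ, l.Prime → l ≠ p → padicValInt l Q = 0 := fun l hl hne => by
    have := Fact.mk hl
    rw [val_eq_zero_iff hQ0, Int.natCast_dvd, hQabs]
    exact fun h => hne ((Nat.prime_dvd_prime_iff_eq hl hp).1 h)
  -- an odd prime dividing `Q + 1` divides `x + Q`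
  have hplus : ∀ l : ℕ, l.Prime → l ≠ 2 → (l : ℤ) ∣ Q + 1 → (l : ℤ) ∣ x + Q := by
    intro l hl hl2 hd
    by_contra hnd
    have := Fact.mk hl
    have hlc : l ∣ c := hdiv l (by rw [show Q ^ 2 - 1 = (Q + 1) * (Q - 1) by ring]; exact hd.mul_right _)
    have h1 := hF2 l hl hl2 (Or.inr hd)
    have hlp : l ≠ p := by
      intro e
      have h2 : (l : ℤ) ∣ Q := by rcases hQ with rfl | rfl <;> simp [e]
      have h3 := (Int.dvd_add_right h2).1 hd
      exact hl.ne_one (by exact_mod_cast Int.eq_one_of_dvd_one (by positivity) h3)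
    have h2 : padicValInt l (Q - 1) = 0 := (val_eq_zero_iff hQ1).2 fun h => odd_prime_not_dvd_two hl hl2 (by
      have := dvd_sub hd h
      rwa [show Q + 1 - (Q - 1) = (2 : ℤ) by ring] at this)
    have h3 := valuation_eq (l := l) hc hg hu hQ0 hQ1 hx hx1 hxQ hR
    rw [h2, hVQ l hl hlp, padicValInt.eq_zero_of_not_dvd hnd] at h3
    have := hle l hl
    rcases hF1 l hl hl2 hlc with e | ⟨-, -, e⟩ <;> omega
  -- at `p`
  have hpc : p ∣ c := dvd_trans (dvd_mul_of_dvd_right (dvd_mul_right p _) 2) hN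
  have hw := hF2 p hp hp2 (Or.inl rfl)
  have hgp : padicValNat p g = padicValNat p c := by
    rcases hF1 p hp hp2 hpc with e | ⟨-, -, e⟩ <;> omega
  have hVQp : padicValInt p Q = 1 := by rw [padicValInt, hQabs, padicValNat_self]
  have hpQ1 : padicValInt p (Q - 1) = 0 := (val_eq_zero_iff hQ1).2 fun h => hp.ne_one (by
    have h2 : (p : ℤ) ∣ Q := by rcases hQ with rfl | rfl <;> simp
    have h3 := dvd_sub h2 h
    rw [show Q - (Q - 1) = (1 : ℤ) by ring] at h3
    exact_mod_cast Int.eq_one_of_dvd_one (by positivity) h3)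
  have heqp := valuation_eq (l := p) hc hg hu hQ0 hQ1 hx hx1 hxQ hR
  rw [hpQ1, hVQp, hgp] at heqp
  have hpx : (p : ℤ) ∣ x := by
    by_contra hnd
    have h2 : padicValInt p (x + Q) = 0 := (val_eq_zero_iff hxQ).2 fun h => hnd (by
      have h2 : (p : ℤ) ∣ Q := by rcases hQ with rfl | rfl <;> simp
      exact (Int.dvd_add_left h2).1 h)
    rw [h2, padicValInt.eq_zero_of_not_dvd hnd] at heqp
    omega
  obtain ⟨k, rfl⟩ : Q ∣ x := by rcases hQ with rfl | rfl <;> simpa using hpx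
  have hk0 : k ≠ 0 := fun e => hx (by rw [e, mul_zero])
  have hx1p : padicValInt p (Q * k + 1) = 0 := (val_eq_zero_iff hx1).2 fun h => hp.ne_one (by
    exact_mod_cast Int.eq_one_of_dvd_one (by positivity) ((Int.dvd_add_right hpx).1 h))
  have hpk : padicValInt p k = 0 := by
    by_contra hne
    have hd : (p : ℤ) ∣ k := by
      by_contra hh
      exact hne (padicValInt.eq_zero_of_not_dvd hh)
    have h1 : padicValInt p (Q * k + Q) = 1 := by
      have hk1 : k + 1 ≠ 0 := fun e => hxQ (by linear_combination Q * e)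
      have hk1p : padicValInt p (k + 1) = 0 := (val_eq_zero_iff hk1).2 fun h => hp.ne_one (by
        exact_mod_cast Int.eq_one_of_dvd_one (by positivity) ((Int.dvd_add_right hd).1 h))
      rw [show Q * k + Q = Q * (k + 1) by ring, padicValInt.mul hQ0 hk1, hVQp, hk1p]
    rw [h1, hx1p, padicValInt.mul hQ0 hk0, hVQp] at heqp
    omega
  -- the degree `a`
  have ha : a * (Q * k + Q ^ 2) = Q ^ 2 * (1 + Q * k) := by
    have h : (a - Q * k) * (a * (Q * k + Q ^ 2) - Q ^ 2 * (1 + Q * k)) = 0 := by linear_combination hE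
    exact sub_eq_zero.1 ((mul_eq_zero.1 h).resolve_left (sub_ne_zero.2 hax))
  have ha' : a * (k + Q) = Q * (1 + Q * k) := mul_left_cancel₀ hQ0 (by linear_combination ha)
  have hd0 : k + Q ≠ 0 := fun e => by
    rw [e, mul_zero] at ha'
    rcases mul_eq_zero.1 ha'.symm with h | h
    exacts [hQ0 h, hx1 (by linear_combination h)]
  have hdQ : k + Q ∣ Q ^ 2 - 1 := by
    have hco : IsCoprime (k + Q) Q := by
      have h1 : IsCoprime k (p : ℤ) := by
        rw [isCoprime_comm, (Nat.prime_iff_prime_int.1 hp).coprime_iff_not_dvd]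
        exact (val_eq_zero_iff hk0).1 hpk
      have h2 : IsCoprime k Q := by rcases hQ with e | e <;> rw [e]; exacts [h1, h1.neg_right]
      simpa using h2.add_mul_right_left 1
    have h1 : k + Q ∣ 1 + Q * k := hco.dvd_of_dvd_mul_left ⟨a, by linear_combination -ha'⟩
    have h2 := dvd_sub (dvd_mul_right (k + Q) Q) h1
    rwa [show (k + Q) * Q - (1 + Q * k) = Q ^ 2 - 1 by ring] at h2
  have hQsq : Q ^ 2 - 1 ≠ 0 := by
    rw [show Q ^ 2 - 1 = (Q + 1) * (Q - 1) by ring]; exact mul_ne_zero hQp1 hQ1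
  have h8k : (8 : ℤ) ∣ k + 1 := by
    have hco : IsCoprime (8 : ℤ) Q := by
      obtain ⟨r, hr⟩ := hQ4
      rw [show (8 : ℤ) = 2 ^ 3 by norm_num]
      exact IsCoprime.pow_left ⟨2 * r, -1, by linear_combination -hr⟩
    refine hco.dvd_of_dvd_mul_left ?_
    rwa [show Q * (k + 1) = Q * k + Q by ring]
  obtain ⟨s, hs⟩ := h8k
  obtain ⟨r, hr⟩ := hQ4
  obtain rfl : k = 8 * s - 1 := by omega
  obtain rfl : Q = 4 * r - 1 := by omega
  set T := 2 * r - 1 with hT
  set d' := 2 * r - 1 + 4 * s with hd'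
  have hdd : 8 * s - 1 + (4 * r - 1) = 2 * d' := by rw [hd']; ring
  have hT0 : T ≠ 0 := by omega
  have hd'0 : d' ≠ 0 := by omega
  rw [hdd] at hdQ
  have hkey : ∀ l : ℕ, l.Prime → padicValNat l d'.natAbs = padicValNat l T.natAbs ∨
      (l = 3 ∧ padicValNat l T.natAbs = padicValNat l d'.natAbs + 1 ∧
        padicValNat l g = padicValNat l c + 1 ∧ padicValNat l u = padicValNat l c) := by
    intro l hl
    have := Fact.mk hl
    show padicValInt l d' = padicValInt l T ∨ (l = 3 ∧ padicValInt l T = padicValInt l d' + 1 ∧ _)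
    rcases eq_or_ne l 2 with rfl | hl2
    · left
      rw [padicValInt.eq_zero_of_not_dvd, padicValInt.eq_zero_of_not_dvd] <;> omega
    by_cases hTl : (l : ℤ) ∣ T
    · have hlQ1 : (l : ℤ) ∣ 4 * r - 1 - 1 := by
        rw [show 4 * r - 1 - 1 = 2 * T by rw [hT]; ring]; exact hTl.mul_left 2
      have hlQ2 : ¬ (l : ℤ) ∣ 4 * r - 1 + 1 := fun h => odd_prime_not_dvd_two hl hl2 (by
        have := dvd_sub h hlQ1
        rwa [show (4 * r - 1 + 1) - (4 * r - 1 - 1) = (2 : ℤ) by ring] at this)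
      have hlp : l ≠ p := by
        intro e
        have h2 : (l : ℤ) ∣ 4 * r - 1 := by rcases hQ with h | h <;> rw [h, e] <;> simp
        have h3 := dvd_sub h2 hlQ1
        rw [show 4 * r - 1 - (4 * r - 1 - 1) = (1 : ℤ) by ring] at h3
        exact hl.ne_one (by exact_mod_cast Int.eq_one_of_dvd_one (by positivity) h3)
      have hlc : l ∣ c := hdiv l (by
        rw [show (4 * r - 1) ^ 2 - 1 = (4 * r - 1 - 1) * (4 * r - 1 + 1) by ring]; exact hlQ1.mul_right _)
      have hv2 : padicValInt l 2 = 0 := padicValInt.eq_zero_of_not_dvd (odd_prime_not_dvd_two hl hl2)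
      have hβ : padicValInt l (4 * r - 1 - 1) = padicValInt l T := by
        rw [show 4 * r - 1 - 1 = 2 * T by rw [hT]; ring, padicValInt.mul two_ne_zero hT0, hv2, zero_add]
      have hle2 : padicValInt l d' ≤ padicValInt l T := by
        have h1 := le_val_of_dvd (l := l) hdQ hQsq
        rw [padicValInt.mul two_ne_zero hd'0, hv2, zero_add,
          show (4 * r - 1) ^ 2 - 1 = (4 * r - 1 - 1) * (4 * r - 1 + 1) by ring, padicValInt.mul hQ1 hQp1,
          padicValInt.eq_zero_of_not_dvd hlQ2, hβ, add_zero] at h1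
        exact h1
      rcases hle2.eq_or_lt with e | hlt
      · exact Or.inl e
      right
      have hxQ' : padicValInt l ((4 * r - 1) * (8 * s - 1) + (4 * r - 1)) = padicValInt l d' := by
        have hne : 2 * d' + -(4 * r - 1 - 1) ≠ 0 := by
          rw [show 2 * d' + -(4 * r - 1 - 1) = 8 * s by rw [hd']; ring]
          intro e
          exact hxQ (by linear_combination (4 * r - 1) * e)
        rw [show (4 * r - 1) * (8 * s - 1) + (4 * r - 1) = (4 * r - 1) * (2 * d' + -(4 * r - 1 - 1)) by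
          rw [hd']; ring, padicValInt.mul hQ0 hne, hVQ l hl hlp, zero_add, val_add_of_lt (mul_ne_zero two_ne_zero hd'0)
          (neg_ne_zero.2 hQ1), padicValInt.mul two_ne_zero hd'0, hv2, zero_add]
        rw [padicValInt.mul two_ne_zero hd'0, hv2, zero_add]
        rw [val_neg, hβ]
        exact hlt
      have hx1' : padicValInt l ((4 * r - 1) * (8 * s - 1) + 1) = padicValInt l d' := by
        have hA : padicValInt l ((4 * r - 1) * (2 * d')) = padicValInt l d' := by
          rw [padicValInt.mul hQ0 (mul_ne_zero two_ne_zero hd'0), hVQ l hl hlp, zero_add,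
            padicValInt.mul two_ne_zero hd'0, hv2, zero_add]
        rw [show (4 * r - 1) * (8 * s - 1) + 1 =
          (4 * r - 1) * (2 * d') + -((4 * r - 1 - 1) * (4 * r - 1 + 1)) by rw [hd']; ring,
          val_add_of_lt (mul_ne_zero hQ0 (mul_ne_zero two_ne_zero hd'0)) (neg_ne_zero.2 (mul_ne_zero hQ1 hQp1)), hA]
        rw [hA]
        have : padicValInt l (-((4 * r - 1 - 1) * (4 * r - 1 + 1))) = padicValInt l T := by
          rw [val_neg,
            padicValInt.mul hQ1 hQp1, padicValInt.eq_zero_of_not_dvd hlQ2, hβ, add_zero]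
        rw [this]; exact hlt
      have heq := valuation_eq (l := l) hc hg hu hQ0 hQ1 hx hx1 hxQ hR
      rw [hβ, hVQ l hl hlp, hxQ', hx1'] at heq
      have := hle l hl
      rcases hF1 l hl hl2 hlc with e | ⟨e3, e, eu⟩
      · exfalso; omega
      · exact ⟨e3, by omega, e, eu⟩
    · left
      rw [padicValInt.eq_zero_of_not_dvd hTl, val_eq_zero_iff hd'0]
      intro hd
      have hsq' : (l : ℤ) ∣ (4 * r - 1) ^ 2 - 1 := (hd.mul_left 2).trans hdQ
      rw [show (4 * r - 1) ^ 2 - 1 = (4 * r - 1 + 1) * (4 * r - 1 - 1) by ring] at hsq'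
      rcases (Nat.prime_iff_prime_int.1 hl).dvd_mul.1 hsq' with h | h
      · have h1 := hplus l hl hl2 h
        rw [show (4 * r - 1) * (8 * s - 1) + (4 * r - 1) = (4 * r - 1) * (2 * d' - (4 * r - 1 + 1) + 2) by
          rw [hd']; ring] at h1
        rcases (Nat.prime_iff_prime_int.1 hl).dvd_mul.1 h1 with h2 | h2
        · have h3 := (Int.dvd_add_right h2).1 h
          exact hl.ne_one (by exact_mod_cast Int.eq_one_of_dvd_one (by positivity) h3)
        · exact odd_prime_not_dvd_two hl hl2 ((Int.dvd_add_right (dvd_sub (hd.mul_left 2) h)).1 h2)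
      · rw [show 4 * r - 1 - 1 = 2 * T by rw [hT]; ring] at h
        exact hTl (((Nat.prime_iff_prime_int.1 hl).dvd_mul.1 h).resolve_left (odd_prime_not_dvd_two hl hl2))
  -- the signs
  have hTd : T = -3 * d' ∧ padicValNat 3 T.natAbs = padicValNat 3 d'.natAbs + 1 := by
    rcases natAbs_cases (D := d'.natAbs) (N := T.natAbs) (by omega) (by omega)
      (fun l hl => (hkey l hl).imp_right fun h => ⟨h.1, h.2.1⟩) with e | ⟨e, e'⟩
    · exfalso
      have hs0 : s ≠ 0 := fun e => hxQ (by rw [e]; ring)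
      omega
    · exact ⟨by omega, e'⟩
  obtain ⟨hTd, h3v⟩ := hTd
  have hg3 : padicValNat 3 g = padicValNat 3 c + 1 ∧ padicValNat 3 u = padicValNat 3 c := by
    rcases hkey 3 Nat.prime_three with e | ⟨-, -, e⟩
    · omega
    · exact e
  have hsd : s = d' := by omega
  have hr3 : r = (1 - 3 * d') / 2 ∧ 2 * r = 1 - 3 * d' := by omega
  have hrd : 4 * r - 1 = 1 - 6 * d' := by omega
  have hdodd : ¬ (2 : ℤ) ∣ d' := by omega
  -- the 2-parts
  have : Fact (Nat.Prime 2) := ⟨Nat.prime_two⟩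
  have hv2d : padicValInt 2 d' = 0 := padicValInt.eq_zero_of_not_dvd hdodd
  have hv22 : padicValInt 2 2 = 1 := by rw [show (2 : ℤ) = ((2 : ℕ) : ℤ) by rfl, padicValInt.of_nat, padicValNat_self]
  have heq2 := valuation_eq (l := 2) hc hg hu hQ0 hQ1 hx hx1 hxQ hR
  rw [h2c, h2g, h2u, hVQ 2 Nat.prime_two hp2.symm] at heq2
  have a1 : padicValInt 2 (4 * r - 1 - 1) = 1 := by
    rw [show 4 * r - 1 - 1 = 2 * T by rw [hT]; ring, padicValInt.mul two_ne_zero hT0, hv22,
      padicValInt.eq_zero_of_not_dvd]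
    · omega
  have a2 : padicValInt 2 ((4 * r - 1) * (8 * s - 1)) = 0 :=
    padicValInt.eq_zero_of_not_dvd fun h => by
      rcases Int.prime_two.dvd_mul.1 h with h | h <;> omega
  have a3 : padicValInt 2 ((4 * r - 1) * (8 * s - 1) + 1) = 1 := by
    rw [hrd, hsd, show (1 - 6 * d') * (8 * d' - 1) + 1 = 2 * (d' * (7 - 24 * d')) by ring,
      padicValInt.mul two_ne_zero (mul_ne_zero hd'0 (by omega)), hv22, padicValInt.eq_zero_of_not_dvd]
    intro h
    rcases Int.prime_two.dvd_mul.1 h with h | h <;> omega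
  have a4 : padicValInt 2 ((4 * r - 1) * (8 * s - 1) + (4 * r - 1)) = 3 := by
    rw [hsd, show (4 * r - 1) * (8 * d' - 1) + (4 * r - 1) = 2 * (2 * (2 * ((4 * r - 1) * d'))) by ring,
      padicValInt.mul two_ne_zero (by simp [hQ0, hd'0]), padicValInt.mul two_ne_zero (by simp [hQ0, hd'0]),
      padicValInt.mul two_ne_zero (by simp [hQ0, hd'0]), padicValInt.mul hQ0 hd'0, hv22, hv2d,
      hVQ 2 Nat.prime_two hp2.symm]
  rw [a1, a2, a3, a4] at heq2
  have hm : m = 0 := by omega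
  have hv2Q : padicValInt 2 (4 * r - 1 + 1) ≤ 2 := by
    have h1 : padicValNat 2 (2 * (p * (p ^ 2 - 1))) ≤ padicValNat 2 c := by
      obtain ⟨q, hq⟩ := hN
      rw [hq]
      have hq0 : q ≠ 0 := by rintro rfl; rw [mul_zero] at hq; exact hc hq
      have hne : 2 * (p * (p ^ 2 - 1)) ≠ 0 := fun e => by rw [e, zero_mul] at hq; exact hc hq
      rw [padicValNat.mul hne hq0]
      omega
    have hp21 : 1 < p ^ 2 := Nat.one_lt_pow two_ne_zero hp.one_lt
    rw [padicValNat.mul two_ne_zero (mul_ne_zero hp.ne_zero (by omega)), padicValNat.mul hp.ne_zero (by omega),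
      padicValNat_self, padicValNat.eq_zero_of_not_dvd (show ¬ 2 ∣ p from fun h => hp2
        ((Nat.prime_dvd_prime_iff_eq Nat.prime_two hp).1 h).symm), h2c, hm] at h1
    have h2 : padicValNat 2 (p ^ 2 - 1) = padicValInt 2 ((4 * r - 1) ^ 2 - 1) := by
      rw [hsq, show ((p ^ 2 : ℕ) : ℤ) - 1 = (((p ^ 2 - 1 : ℕ)) : ℤ) by omega, padicValInt.of_nat]
    rw [h2, show (4 * r - 1) ^ 2 - 1 = (4 * r - 1 - 1) * (4 * r - 1 + 1) by ring, padicValInt.mul hQ1 hQp1,
      a1] at h1
    omega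
  -- `|Q + 1| = 4`
  have habs : (4 * r - 1 + 1).natAbs = 4 := by
    refine (Nat.eq_iff_prime_padicValNat_eq _ 4 (by omega) (by norm_num)).2 fun l hl => ?_
    have := Fact.mk hl
    rcases eq_or_ne l 2 with rfl | hl2
    · have h1 : 2 ≤ padicValNat 2 (4 * r - 1 + 1).natAbs :=
        ((padicValNat_dvd_iff 2 _).1 ⟨r.natAbs, by omega⟩).resolve_left (by omega)
      rw [show (4 : ℕ) = 2 ^ 2 by norm_num, padicValNat.prime_pow]
      show padicValInt 2 _ = 2
      have : padicValInt 2 (4 * r - 1 + 1) = padicValNat 2 (4 * r - 1 + 1).natAbs := rfl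
      omega
    · rw [padicValNat.eq_zero_of_not_dvd (n := 4) (fun h => hl2 ((Nat.prime_dvd_prime_iff_eq hl Nat.prime_two).1
          (hl.dvd_of_dvd_pow (m := 2) (n := 2) (by norm_num; exact h)))), padicValNat.eq_zero_of_not_dvd]
      intro h
      have hd : (l : ℤ) ∣ 4 * r - 1 + 1 := Int.natCast_dvd.2 h
      have h1 := hplus l hl hl2 hd
      rw [hsd, show (4 * r - 1) * (8 * d' - 1) + (4 * r - 1) = (4 * r - 1) * (2 * (2 * (2 * d'))) by ring] at h1
      have hp' := Nat.prime_iff_prime_int.1 hl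
      rcases hp'.dvd_mul.1 h1 with h2 | h2
      · have h3 := (Int.dvd_add_right h2).1 hd
        exact hl.ne_one (by exact_mod_cast Int.eq_one_of_dvd_one (by positivity) h3)
      have h3 : (l : ℤ) ∣ d' := by
        rcases hp'.dvd_mul.1 h2 with h3 | h3
        · exact absurd h3 (odd_prime_not_dvd_two hl hl2)
        rcases hp'.dvd_mul.1 h3 with h3 | h3
        · exact absurd h3 (odd_prime_not_dvd_two hl hl2)
        exact (hp'.dvd_mul.1 h3).resolve_left (odd_prime_not_dvd_two hl hl2)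
      exact odd_prime_not_dvd_two hl hl2 (by
        have := dvd_add hd (h3.mul_left 6)
        rwa [show 4 * r - 1 + 1 + 6 * d' = (2 : ℤ) by rw [hrd]; ring] at this)
  have hd1 : d' = 1 := by omega
  have hr1 : r = -1 := by omega
  have hs1 : s = 1 := hsd.trans hd1
  rw [hr1, hs1] at hR
  have hp5 : p = 5 := by rcases hQ with h | h <;> omega
  refine ⟨hp5, ?_, hg3.1, hg3.2, hm⟩
  have h : (g : ℤ) * (u : ℤ) ^ 2 * 400 = 357 * (c : ℤ) ^ 3 := by linarith
  exact_mod_cast h

end CfsgLib.AlmostCyclic.Exclusion
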