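import Mathlib

/-!
# No group of order 85680 with small centralisers at 7 and 17 (owner: helper7)
-/

set_option autoImplicit false

namespace CfsgLib.AlmostCyclic.Exclusion

open Subgroup

variable {G : Type*} [Group G] [Finite G]

theorem card_mulAut_prime {A : Type*} [Group A] [Finite A] {l : ℕ} (hl : l.Prime) (hA : Nat.card A = l) :
    Nat.card (MulAut A) = l - 1 := by
  have := Fact.mk hl
  have : IsCyclic A := isCyclic_of_prime_card hA
  rw [Nat.card_congr (IsCyclic.mulAutMulEquiv A).toEquiv, hA, Nat.card_eq_fintype_card, ZMod.card_units]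

/-- The three factors of the order at an element generating a Sylow subgroup of prime order. -/
theorem exists_factor {l : ℕ} [Fact l.Prime] {a : G} (ha : orderOf a = l) (h1 : padicValNat l (Nat.card G) = 1) :
    ∃ n j : ℕ, n % l = 1 ∧ j ∣ l - 1 ∧ n * j * Nat.card (centralizer ({a} : Set G)) = Nat.card G := by
  have hl : l.Prime := Fact.out
  obtain ⟨P, hP⟩ := (IsPGroup.of_card (G := zpowers a) (p := l) (n := 1)
    (by rw [Nat.card_zpowers, ha, pow_one])).exists_le_sylow
  have hPc : Nat.card (P : Subgroup G) = l := by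
    rw [P.card_eq_multiplicity, Nat.factorization_def _ hl, h1, pow_one]
  have heq : zpowers a = (P : Subgroup G) :=
    eq_of_le_of_card_ge hP (by rw [hPc, Nat.card_zpowers, ha])
  have hcent : centralizer ((P : Subgroup G) : Set G) = centralizer ({a} : Set G) := by
    rw [← heq]
    ext x
    refine ⟨fun hx => mem_centralizer_singleton_iff.2 (mem_centralizer_iff.1 hx a (mem_zpowers a)).symm,
      fun hx => mem_centralizer_iff.2 ?_⟩
    rintro _ ⟨i, rfl⟩
    have hc : Commute x a := mem_centralizer_singleton_iff.1 hx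
    exact (hc.zpow_right i).eq.symm
  let f := (P : Subgroup G).normalizerMonoidHom
  refine ⟨Nat.card (Sylow l G), Nat.card f.range, ?_, ?_, ?_⟩
  · rw [show Nat.card (Sylow l G) % l = 1 % l from card_sylow_modEq_one l G]
    exact Nat.mod_eq_of_lt hl.one_lt
  · rw [← card_mulAut_prime hl hPc]
    exact card_subgroup_dvd_card _
  · have h2 : Nat.card f.range * Nat.card f.ker = Nat.card (normalizer ((P : Subgroup G) : Set G)) := by
      rw [← index_ker, mul_comm, card_mul_index]
    have h3 : Nat.card f.ker = Nat.card (centralizer ({a} : Set G)) := by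
      rw [normalizerMonoidHom_ker,
        Nat.card_congr (subgroupOfEquivOfLe (Subgroup.centralizer_le_normalizer _)).toEquiv, hcent]
    rw [mul_assoc, ← h3, h2, Sylow.card_eq_index_normalizer P, mul_comm]
    exact card_mul_index _

theorem exists_conj_mem_zpowers {l : ℕ} [Fact l.Prime] {a b : G} (ha : orderOf a = l) (hb : orderOf b = l)
    (h1 : padicValNat l (Nat.card G) = 1) : ∃ g : G, g * b * g⁻¹ ∈ zpowers a := by
  obtain ⟨P, hP⟩ := (IsPGroup.of_card (G := zpowers a) (p := l) (n := 1)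
    (by rw [Nat.card_zpowers, ha, pow_one])).exists_le_sylow
  obtain ⟨R, hR⟩ := (IsPGroup.of_card (G := zpowers b) (p := l) (n := 1)
    (by rw [Nat.card_zpowers, hb, pow_one])).exists_le_sylow
  obtain ⟨g, hg⟩ := MulAction.exists_smul_eq G R P
  refine ⟨g, ?_⟩
  rw [eq_of_le_of_card_ge hP (by
    rw [P.card_eq_multiplicity, Nat.factorization_def _ Fact.out, h1, pow_one, Nat.card_zpowers, ha]), ← hg,
    Sylow.coe_subgroup_smul]
  exact ⟨b, hR (mem_zpowers b), by simp⟩

theorem val_one {l n : ℕ} [Fact l.Prime] (hn : ¬ l ∣ n) : padicValNat l (l * n) = 1 := by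
  rw [padicValNat.mul (Fact.out : l.Prime).ne_zero (fun e => hn (by rw [e]; exact dvd_zero l)), padicValNat_self,
    padicValNat.eq_zero_of_not_dvd hn]

theorem coprime_of_no_elements {X : Type*} [Group X] [Finite X] (h2 : ∀ x : X, orderOf x ≠ 2)
    (h3 : ∀ x : X, orderOf x ≠ 3) : Nat.Coprime (Nat.card X) 144 := by
  refine Nat.coprime_of_dvd fun q hq hqX hq144 => ?_
  have := Fact.mk hq
  obtain ⟨x, hx⟩ := exists_prime_orderOf_dvd_card' q hqX
  rcases (show q = 2 ∨ q = 3 by
    rcases hq.dvd_mul.1 (show q ∣ 2 ^ 4 * 3 ^ 2 from hq144) with h | h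
    · exact Or.inl ((Nat.prime_dvd_prime_iff_eq hq Nat.prime_two).1 (hq.dvd_of_dvd_pow h))
    · exact Or.inr ((Nat.prime_dvd_prime_iff_eq hq Nat.prime_three).1 (hq.dvd_of_dvd_pow h))) with rfl | rfl
  exacts [h2 x hx, h3 x hx]

/-- **The count.** -/
theorem not_card_85680 (hg : Nat.card G = 85680)
    (h : ∀ l, l = 7 ∨ l = 17 → ∀ a x : G, orderOf a = l → Commute x a → orderOf x ≠ 2 ∧ orderOf x ≠ 3) :
    False := by
  have : Fact (Nat.Prime 7) := ⟨by norm_num⟩
  have : Fact (Nat.Prime 17) := ⟨by norm_num⟩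
  have : Fact (Nat.Prime 5) := ⟨by norm_num⟩
  have v7 : padicValNat 7 (Nat.card G) = 1 := by
    rw [hg, show (85680 : ℕ) = 7 * 12240 by norm_num]; exact val_one (by norm_num)
  have v17 : padicValNat 17 (Nat.card G) = 1 := by
    rw [hg, show (85680 : ℕ) = 17 * 5040 by norm_num]; exact val_one (by norm_num)
  obtain ⟨a, ha⟩ := exists_prime_orderOf_dvd_card' (G := G) 17 (by rw [hg]; norm_num)
  obtain ⟨b, hb⟩ := exists_prime_orderOf_dvd_card' (G := G) 7 (by rw [hg]; norm_num)
  have hcop : ∀ l w, (l = 7 ∨ l = 17) → orderOf w = l →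
      Nat.Coprime (Nat.card (centralizer ({w} : Set G))) 144 := fun l w hl hw =>
    coprime_of_no_elements
      (fun x e => (h l hl w x hw (mem_centralizer_singleton_iff.1 x.2)).1 ((Subgroup.orderOf_coe x).trans e))
      (fun x e => (h l hl w x hw (mem_centralizer_singleton_iff.1 x.2)).2 ((Subgroup.orderOf_coe x).trans e))
  have hself : ∀ w : G, orderOf w ∣ Nat.card (centralizer ({w} : Set G)) := fun w =>
    Subgroup.orderOf_mk w (mem_centralizer_singleton_iff.2 rfl : w ∈ centralizer ({w} : Set G)) ▸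
      orderOf_dvd_natCard _
  -- at 7
  have hb' : Nat.card (centralizer ({b} : Set G)) = 7 * 17 := by
    obtain ⟨n, j, hn, hj, heq⟩ := exists_factor hb v7
    rw [hg] at heq
    have hd : Nat.card (centralizer ({b} : Set G)) ∣ 85680 := Dvd.intro_left _ heq
    have hd' : Nat.card (centralizer ({b} : Set G)) ∣ 7 * 85 :=
      (hcop 7 b (Or.inl rfl) hb).dvd_of_dvd_mul_left (by norm_num; exact hd)
    obtain ⟨k, hk⟩ := hb ▸ hself b
    rw [hk] at heq hd' ⊢
    have hk85 : k ∈ Nat.divisors 85 := Nat.mem_divisors.2 ⟨Nat.dvd_of_mul_dvd_mul_left (by norm_num) hd', by norm_num⟩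
    have hj6 : j ∈ Nat.divisors 6 := Nat.mem_divisors.2 ⟨hj, by norm_num⟩
    have : k ∈ ({1, 5, 17, 85} : Finset ℕ) := by rwa [show Nat.divisors 85 = {1, 5, 17, 85} by decide] at hk85
    have hj' : j ∈ ({1, 2, 3, 6} : Finset ℕ) := by rwa [show Nat.divisors 6 = {1, 2, 3, 6} by decide] at hj6
    simp only [Finset.mem_insert, Finset.mem_singleton] at this hj'
    rcases this with rfl | rfl | rfl | rfl <;> rcases hj' with rfl | rfl | rfl | rfl <;> omega
  -- at 17
  obtain ⟨a', ha'⟩ := exists_prime_orderOf_dvd_card' (G := centralizer ({b} : Set G)) 17 (by rw [hb']; norm_num)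
  obtain ⟨g, hgb⟩ := exists_conj_mem_zpowers ha (a := a) (b := (a' : G))
    (by rw [Subgroup.orderOf_coe, ha']) v17
  set b₁ := g * b * g⁻¹
  have hb₁ : orderOf b₁ = 7 := by
    show orderOf (MulAut.conj g b) = 7
    rw [MulEquiv.orderOf_eq, hb]
  have hab : Commute b₁ a := by
    have h1 : Commute b₁ (g * a' * g⁻¹) := by
      have h2 : Commute b (a' : G) := (mem_centralizer_singleton_iff.1 a'.2).symm
      exact h2.map (MulAut.conj g)
    have h2 : zpowers (g * a' * g⁻¹) = zpowers a := by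
      refine eq_of_le_of_card_ge (zpowers_le.2 hgb) ?_
      rw [Nat.card_zpowers, Nat.card_zpowers, show g * a' * g⁻¹ = MulAut.conj g (a' : G) from rfl,
        MulEquiv.orderOf_eq, Subgroup.orderOf_coe, ha', ha]
    obtain ⟨i, hi⟩ := mem_zpowers_iff.1 (h2 ▸ mem_zpowers a : a ∈ zpowers (g * a' * g⁻¹))
    rw [← hi]
    exact h1.zpow_right i
  set M := centralizer ({a} : Set G)
  have hbM : b₁ ∈ M := mem_centralizer_singleton_iff.2 hab.eq
  have hM : Nat.card M = 17 * 35 := by
    obtain ⟨n, j, hn, hj, heq⟩ := exists_factor ha v17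
    rw [hg] at heq
    have hd : Nat.card M ∣ 85680 := Dvd.intro_left _ heq
    have hd' : Nat.card M ∣ 17 * 35 :=
      (hcop 17 a (Or.inr rfl) ha).dvd_of_dvd_mul_left (by norm_num; exact hd)
    have h7 : 7 ∣ Nat.card M := hb₁ ▸ (Subgroup.orderOf_mk b₁ hbM ▸ orderOf_dvd_natCard _)
    obtain ⟨k, hk⟩ := ha ▸ hself a
    change Nat.card M = 17 * k at hk
    rw [hk] at heq hd' h7 ⊢
    have hk35 : k ∈ Nat.divisors 35 := Nat.mem_divisors.2 ⟨Nat.dvd_of_mul_dvd_mul_left (by norm_num) hd', by norm_num⟩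
    have hj16 : j ∈ Nat.divisors 16 := Nat.mem_divisors.2 ⟨hj, by norm_num⟩
    have : k ∈ ({1, 5, 7, 35} : Finset ℕ) := by rwa [show Nat.divisors 35 = {1, 5, 7, 35} by decide] at hk35
    have hj' : j ∈ ({1, 2, 4, 8, 16} : Finset ℕ) := by
      rwa [show Nat.divisors 16 = {1, 2, 4, 8, 16} by decide] at hj16
    simp only [Finset.mem_insert, Finset.mem_singleton] at this hj'
    rcases this with rfl | rfl | rfl | rfl <;> rcases hj' with rfl | rfl | rfl | rfl | rfl <;> omega
  -- the Sylow 7-subgroup of `M` is normal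
  obtain ⟨B, hB⟩ := (IsPGroup.of_card (G := zpowers (⟨b₁, hbM⟩ : M)) (p := 7) (n := 1)
    (by rw [Nat.card_zpowers, Subgroup.orderOf_mk, hb₁, pow_one])).exists_le_sylow
  have hBc : Nat.card (B : Subgroup M) = 7 := by
    rw [B.card_eq_multiplicity, Nat.factorization_def _ Fact.out, hM, show 17 * 35 = 7 * 85 by norm_num,
      val_one (by norm_num), pow_one]
  have hBeq : zpowers (⟨b₁, hbM⟩ : M) = (B : Subgroup M) :=
    eq_of_le_of_card_ge hB (by rw [hBc, Nat.card_zpowers, Subgroup.orderOf_mk, hb₁])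
  have haM : a ∈ M := mem_centralizer_singleton_iff.2 rfl
  set N := normalizer ((B : Subgroup M) : Set M)
  have haN : (⟨a, haM⟩ : M) ∈ N := centralizer_le_normalizer _ (mem_centralizer_iff.2 fun w hw => by
    exact (Subtype.ext (mem_centralizer_singleton_iff.1 w.2) : w * ⟨a, haM⟩ = ⟨a, haM⟩ * w))
  have hN119 : 119 ∣ Nat.card N := by
    have h17 : 17 ∣ Nat.card N := by
      have h1 := orderOf_dvd_natCard (⟨⟨a, haM⟩, haN⟩ : N)
      rwa [Subgroup.orderOf_mk, Subgroup.orderOf_mk, ha] at h1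
    have h7 : 7 ∣ Nat.card N := hBc ▸ card_dvd_of_le le_normalizer
    exact (show Nat.Coprime 17 7 by norm_num).mul_dvd_of_dvd_of_dvd h17 h7
  have hn : N = ⊤ := by
    refine index_eq_one.1 ?_
    have h1 := N.card_mul_index
    rw [hM] at h1
    obtain ⟨q, hq⟩ := hN119
    rw [hq] at h1
    have h2 : Nat.card (Sylow 7 M) % 7 = 1 % 7 := card_sylow_modEq_one 7 M
    rw [Sylow.card_eq_index_normalizer B] at h2
    have h3 : q * N.index = 5 := by linarith
    have h4 : N.index ∣ 5 := Dvd.intro_left _ h3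
    rcases (Nat.dvd_prime (by norm_num : Nat.Prime 5)).1 h4 with e | e
    · exact e
    · have h5 : N.index % 7 = 1 % 7 := h2
      rw [e] at h5; norm_num at h5
  obtain ⟨f, hf⟩ := exists_prime_orderOf_dvd_card' (G := M) 5 (by rw [hM]; norm_num)
  have hfN : f ∈ N := hn ▸ mem_top f
  let ψ := (B : Subgroup M).normalizerMonoidHom
  have hker : ψ ⟨f, hfN⟩ = 1 := by
    refine orderOf_eq_one_iff.1 (Nat.eq_one_of_dvd_coprimes (show Nat.Coprime 5 6 by norm_num) ?_ ?_)
    · refine (orderOf_map_dvd ψ _).trans ?_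
      rw [Subgroup.orderOf_mk, hf]
    · rw [← show Nat.card (MulAut (B : Subgroup M)) = 6 by rw [card_mulAut_prime (by norm_num) hBc]]
      exact orderOf_dvd_natCard _
  have hfb : Commute ((f : G)) b₁ := by
    have h1 := congrArg (fun γ : MulAut (B : Subgroup M) =>
      (((γ ⟨⟨b₁, hbM⟩, hBeq ▸ mem_zpowers _⟩ : (B : Subgroup M)) : M) : G)) hker
    change (f : G) * b₁ * (f : G)⁻¹ = b₁ at h1
    exact mul_inv_eq_iff_eq_mul.1 h1
  -- contradiction
  have hfb' : g⁻¹ * f * g ∈ centralizer ({b} : Set G) := by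
    refine mem_centralizer_singleton_iff.2 ?_
    have := (hfb.map (MulAut.conj g⁻¹)).eq
    simp only [b₁, MulAut.conj_apply, inv_inv] at this
    simpa [mul_assoc] using this
  have h5 := orderOf_dvd_natCard (⟨_, hfb'⟩ : centralizer ({b} : Set G))
  rw [Subgroup.orderOf_mk, show g⁻¹ * f * g = MulAut.conj g⁻¹ (f : G) by simp, MulEquiv.orderOf_eq,
    Subgroup.orderOf_coe, hf, hb'] at h5
  norm_num at h5

end CfsgLib.AlmostCyclic.Exclusion
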