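import Cfsg.Agent.Lib.AlmostCyclic.Exclusion.Action
import Mathlib.GroupTheory.Transfer
import Mathlib.NumberTheory.Basic

/-!
# The odd primes of an involution centraliser (owner: helper7)

If an odd prime divides the order of `C(z)` and more often the order of the group, then there is a
four-group through `z` normalised by a generator of a Sylow subgroup centralising an element of
`C(z)` of that order.
-/

set_option autoImplicit false

namespace CfsgLib.AlmostCyclic.Exclusion

open Subgroup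

theorem modEq_one_of_pow {l e k : ℕ} (hl : l.Prime) {s : ℤ} (hk : Nat.Coprime k l) (h1 : (l : ℤ) ∣ s - 1)
    (h2 : (l : ℤ) ^ (e + 1) ∣ s ^ k - 1) : (l : ℤ) ^ (e + 1) ∣ s - 1 := by
  have h3 : (l : ℤ) ^ (e + 1) ∣ s ^ l ^ e - 1 := by
    have := dvd_sub_pow_of_dvd_sub (R := ℤ) h1 e
    rwa [one_pow] at this
  obtain ⟨u, hu⟩ : IsUnit ((s : ℤ) : ZMod (l ^ (e + 1))) := by
    have h4 : ((s ^ l ^ e : ℤ) : ZMod (l ^ (e + 1))) = 1 := by
      rw [← sub_eq_zero, ← Int.cast_one, ← Int.cast_sub, ZMod.intCast_zmod_eq_zero_iff_dvd]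
      push_cast
      exact h3
    push_cast at h4
    exact IsUnit.of_pow_eq_one h4 (pow_ne_zero _ hl.ne_zero)
  have hpow : ∀ j : ℕ, (l : ℤ) ^ (e + 1) ∣ s ^ j - 1 → u ^ j = 1 := fun j hj => by
    refine Units.ext ?_
    rw [Units.val_pow_eq_pow_val, hu, Units.val_one, ← sub_eq_zero]
    have : ((s ^ j - 1 : ℤ) : ZMod (l ^ (e + 1))) = 0 := by
      rw [ZMod.intCast_zmod_eq_zero_iff_dvd]; push_cast; exact hj
    push_cast at this
    exact this
  have hu1 : u = 1 := orderOf_eq_one_iff.1 (Nat.eq_one_of_dvd_coprimes (hk.symm.pow_left e)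
    (orderOf_dvd_of_pow_eq_one (hpow _ h3)) (orderOf_dvd_of_pow_eq_one (hpow _ h2)))
  have : ((s - 1 : ℤ) : ZMod (l ^ (e + 1))) = 0 := by
    push_cast; rw [← hu, hu1, Units.val_one, sub_self]
  rw [ZMod.intCast_zmod_eq_zero_iff_dvd] at this
  push_cast at this
  exact this

variable {D : Type*} [Group D] [Finite D]

/-- A cyclic Sylow subgroup containing a central element of order `l` has a normal complement. -/
theorem normalizer_le_centralizer {l : ℕ} [Fact l.Prime] (P : Sylow l D) [IsCyclic (P : Subgroup D)] {x : D}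
    (hx : x ∈ center D) (hxP : x ∈ (P : Subgroup D)) (hxo : orderOf x = l) :
    normalizer ((P : Subgroup D) : Set D) ≤ centralizer ((P : Subgroup D) : Set D) := by
  intro n hn
  obtain ⟨a, ha⟩ := IsCyclic.exists_generator (α := (P : Subgroup D))
  obtain ⟨s, hs⟩ := mem_zpowers_iff.1 (ha ⟨n * a * n⁻¹, (mem_normalizer_iff.1 hn a).1 a.2⟩)
  have hs' : (a : D) ^ s = n * a * n⁻¹ := congrArg Subtype.val hs
  obtain ⟨E, hE⟩ := IsPGroup.iff_orderOf.1 P.isPGroup' a
  have haE : orderOf (a : D) = l ^ E := by rw [Subgroup.orderOf_coe, hE]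
  obtain ⟨j, hj⟩ := mem_zpowers_iff.1 (ha ⟨x, hxP⟩)
  have hj' : (a : D) ^ j = x := congrArg Subtype.val hj
  -- `n` acts trivially on `⟨x⟩`
  have hs1 : (l : ℤ) ∣ s - 1 := by
    have h1 : x ^ s = x := by
      rw [← hj', ← zpow_mul, mul_comm, zpow_mul, hs', conj_zpow, hj', (mem_center_iff.1 hx n), mul_inv_cancel_right]
    rw [← zpow_one x, ← zpow_mul, one_mul, zpow_eq_zpow_iff_modEq, hxo] at h1
    exact Int.modEq_iff_dvd.1 h1.symm
  -- the order of the action is prime to `l`
  let N : Subgroup D := normalizer ((P : Subgroup D) : Set D)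
  let PN : Sylow l N := P.subtype le_normalizer
  have : (PN : Subgroup N).Normal := by
    rw [Sylow.coe_subtype]; exact normal_in_normalizer
  set k := (PN : Subgroup N).index
  have hk : Nat.Coprime k l := ((Fact.out : l.Prime).coprime_iff_not_dvd.2 PN.not_dvd_index).symm
  have hnk : (⟨n, hn⟩ : N) ^ k ∈ (PN : Subgroup N) := pow_index_mem _ _
  have hnkP : n ^ k ∈ (P : Subgroup D) := by
    rw [Sylow.coe_subtype, mem_subgroupOf] at hnk
    simpa using hnk
  have hit : ∀ i : ℕ, n ^ i * a * (n ^ i)⁻¹ = (a : D) ^ (s ^ i) := fun i => by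
    induction i with
    | zero => simp
    | succ i ih =>
      rw [pow_succ', _root_.mul_inv_rev,
        show n * n ^ i * a * ((n ^ i)⁻¹ * n⁻¹) = n * (n ^ i * a * (n ^ i)⁻¹) * n⁻¹ by group, ih, ← conj_zpow, ← hs',
        ← zpow_mul, pow_succ']
  have hs2 : (l : ℤ) ^ E ∣ s ^ k - 1 := by
    have h1 := hit k
    have hab : Commute (n ^ k) (a : D) := by
      obtain ⟨i, hi⟩ := mem_zpowers_iff.1 (ha ⟨n ^ k, hnkP⟩)
      rw [← show (a : D) ^ i = n ^ k from congrArg Subtype.val hi]
      exact (Commute.refl (a : D)).zpow_left i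
    rw [hab.eq, mul_inv_cancel_right] at h1
    conv_lhs at h1 => rw [← zpow_one (a : D)]
    rw [zpow_eq_zpow_iff_modEq, haE, Int.modEq_iff_dvd] at h1
    exact_mod_cast h1
  have hfix : n * a * n⁻¹ = a := by
    rcases E with _ | e
    · rw [pow_zero, orderOf_eq_one_iff] at haE
      rw [haE]; group
    have h1 := modEq_one_of_pow (Fact.out : l.Prime) hk hs1 hs2
    rw [← hs']
    conv_rhs => rw [← zpow_one (a : D)]
    rw [zpow_eq_zpow_iff_modEq, haE, Int.modEq_iff_dvd, ← dvd_neg, neg_sub]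
    exact_mod_cast h1
  refine mem_centralizer_iff.2 fun w hw => ?_
  obtain ⟨i, hi⟩ := mem_zpowers_iff.1 (ha ⟨w, hw⟩)
  rw [← show (a : D) ^ i = w from congrArg Subtype.val hi]
  exact (Commute.zpow_left (mul_inv_eq_iff_eq_mul.1 hfix).symm i).eq

variable {G : Type*} [Group G] [Finite G]

/-- **The four-group of an exceptional prime.** -/
theorem exists_four (h : Hyp G) {z : G} (hz : z * z = 1) (hz1 : z ≠ 1) {l : ℕ} [Fact l.Prime] (hl2 : l ≠ 2)
    (hdvd : l ∣ Nat.card (centralizer ({z} : Set G)))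
    (hlt : padicValNat l (Nat.card (centralizer ({z} : Set G))) < padicValNat l (Nat.card G)) :
    ∃ (x : G) (T : Subgroup G) (y : G), orderOf x = l ∧ Commute x z ∧ Commute y x ∧
      (∀ t ∈ T, Commute t x) ∧ z ∈ T ∧ Nat.card T = 4 ∧ (∀ t ∈ T, t * t = 1) ∧
      orderOf y = l ^ padicValNat l (Nat.card G) ∧ y ∈ normalizer (T : Set G) ∧ y * z * y⁻¹ ≠ z := by
  have hl : l.Prime := Fact.out
  obtain ⟨x₀, hx₀⟩ := exists_prime_orderOf_dvd_card' l hdvd
  set x : G := (x₀ : G)
  have hxo : orderOf x = l := by rw [Subgroup.orderOf_coe, hx₀]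
  have hxz : Commute x z := mem_centralizer_singleton_iff.1 x₀.2
  obtain ⟨P, hP⟩ := (IsPGroup.of_card (G := zpowers x) (p := l) (n := 1)
    (by rw [Nat.card_zpowers, hxo, pow_one])).exists_le_sylow
  have hxP : x ∈ (P : Subgroup G) := hP (mem_zpowers x)
  have : IsCyclic (P : Subgroup G) := h.odd l hl hl2 _ P.isPGroup'
  let D : Subgroup G := centralizer ({x} : Set G)
  have hPD : (P : Subgroup G) ≤ D := fun w hw => mem_centralizer_singleton_iff.2 (by
    let _ : CommGroup (P : Subgroup G) := IsCyclic.commGroup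
    exact congrArg Subtype.val (mul_comm (⟨w, hw⟩ : (P : Subgroup G)) ⟨x, hxP⟩))
  let PD : Sylow l D := P.subtype hPD
  have hPDc : IsCyclic (PD : Subgroup D) := (h.subgroup D).odd l hl hl2 _ PD.isPGroup'
  have hxD : x ∈ D := mem_centralizer_singleton_iff.2 rfl
  have hxZ : (⟨x, hxD⟩ : D) ∈ center D :=
    mem_center_iff.2 fun w => Subtype.ext (mem_centralizer_singleton_iff.1 w.2)
  have hNC := normalizer_le_centralizer PD hxZ (by rw [Sylow.coe_subtype, mem_subgroupOf]; exact hxP)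
    (by rw [← Subgroup.orderOf_coe]; exact hxo)
  set τ := MonoidHom.transferSylow PD hNC
  have hK := MonoidHom.ker_transferSylow_isComplement' PD hNC
  have hzD : z ∈ D := mem_centralizer_singleton_iff.2 hxz.symm.eq
  set zD : D := ⟨z, hzD⟩
  have hzK : zD ∈ τ.ker := by
    rw [MonoidHom.mem_ker, ← orderOf_eq_one_iff]
    obtain ⟨k, hk⟩ := IsPGroup.iff_orderOf.1 PD.isPGroup' (τ zD)
    have h2 : orderOf (τ zD) ∣ 2 := (orderOf_map_dvd τ zD).trans
      (orderOf_dvd_of_pow_eq_one (Subtype.ext (by rw [pow_two]; exact hz)))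
    rw [hk] at h2 ⊢
    exact Nat.eq_one_of_dvd_coprimes
      (((Nat.prime_dvd_prime_iff_eq hl Nat.prime_two).not.2 hl2 |> hl.coprime_iff_not_dvd.2).pow_left k)
      dvd_rfl h2
  have : Fact (Nat.Prime 2) := ⟨Nat.prime_two⟩
  obtain ⟨T, hT⟩ := (IsPGroup.of_card (G := zpowers (⟨zD, hzK⟩ : τ.ker)) (p := 2) (n := 1) (by
    rw [Nat.card_zpowers, pow_one, orderOf_eq_prime (p := 2)
      (Subtype.ext (Subtype.ext (by rw [pow_two]; exact hz)))
      (fun e => hz1 (congrArg (fun w : τ.ker => ((w : D) : G)) e))])).exists_le_sylow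
  let TD : Subgroup D := (T : Subgroup τ.ker).map τ.ker.subtype
  have hfr := Sylow.normalizer_sup_eq_top T
  set N : Subgroup D := normalizer (TD : Set D)
  have hvD : padicValNat l (Nat.card D) = padicValNat l (Nat.card G) := by
    refine le_antisymm ?_ ?_
    · exact (padicValNat_dvd_iff_le Nat.card_pos.ne').1 (pow_padicValNat_dvd.trans (card_subgroup_dvd_card D))
    · refine (padicValNat_dvd_iff_le Nat.card_pos.ne').1 ?_
      rw [← Nat.factorization_def _ hl, ← P.card_eq_multiplicity]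
      exact card_dvd_of_le hPD
  obtain ⟨R⟩ := (inferInstance : Nonempty (Sylow l N))
  have hRc : IsCyclic (R : Subgroup N) := ((h.subgroup D).subgroup N).odd l hl hl2 _ R.isPGroup'
  obtain ⟨y₀, hy₀⟩ := hRc.exists_ofOrder_eq_natCard
  set y : G := (((y₀ : N) : D) : G)
  have hvN : padicValNat l (Nat.card N) = padicValNat l (Nat.card D) := by
    refine le_antisymm
      ((padicValNat_dvd_iff_le Nat.card_pos.ne').1 (pow_padicValNat_dvd.trans (card_subgroup_dvd_card N))) ?_
    have h1 : τ.ker.index ∣ Nat.card N := by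
      have h2 := relIndex_dvd_card (H := τ.ker) (K := N)
      rwa [← relIndex_sup_right, hfr, relIndex_top_right] at h2
    refine (padicValNat_dvd_iff_le Nat.card_pos.ne').1 (dvd_trans ?_ h1)
    rw [hK.symm.index_eq_card, ← Nat.factorization_def _ hl, PD.card_eq_multiplicity]
  have hyo : orderOf y = l ^ padicValNat l (Nat.card G) := by
    rw [Subgroup.orderOf_coe, Subgroup.orderOf_coe, Subgroup.orderOf_coe, hy₀, R.card_eq_multiplicity,
      Nat.factorization_def _ hl, hvN, hvD]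
  let TG : Subgroup G := TD.map D.subtype
  have hzT : z ∈ TG := ⟨zD, ⟨⟨zD, hzK⟩, hT (mem_zpowers _), rfl⟩, rfl⟩
  have hTp : IsPGroup 2 TG := (T.isPGroup'.map _).map _
  have hyN : y ∈ normalizer (TG : Set G) :=
    le_normalizer_map D.subtype ⟨((y₀ : N) : D), (y₀ : N).2, rfl⟩
  have hTx : ∀ t ∈ TG, Commute t x := by
    rintro _ ⟨t, -, rfl⟩
    exact mem_centralizer_singleton_iff.1 t.2
  have hyx : Commute y x := mem_centralizer_singleton_iff.1 ((y₀ : N) : D).2
  have hodd : Odd (orderOf y) := hyo ▸ (hl.odd_of_ne_two hl2).pow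
  have hne : y * z * y⁻¹ ≠ z := by
    intro e
    have hyz : y ∈ centralizer ({z} : Set G) := mem_centralizer_singleton_iff.2 (mul_inv_eq_iff_eq_mul.1 e)
    have h1 := (padicValNat_dvd_iff_le Nat.card_pos.ne').1 (hyo ▸ (Subgroup.orderOf_mk y hyz ▸
      orderOf_dvd_natCard (⟨y, hyz⟩ : centralizer ({z} : Set G)) :
      orderOf y ∣ Nat.card (centralizer ({z} : Set G))))
    omega
  rcases commute_or_four hTp (h.two _ hTp) hyN hodd hzT hz hz1 with e | ⟨h4, hsq⟩
  · exact absurd e hne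
  · exact ⟨x, TG, y, hxo, hxz, hyx, hTx, hzT, h4, hsq, hyo, hyN, hne⟩

end CfsgLib.AlmostCyclic.Exclusion
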