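import Cfsg.Agent.Lib.AlmostCyclic.Exclusion.Fixed

/-!
# What commutes with an element of order three in `SL(2, 5)` (owner: helper7)
-/

set_option autoImplicit false

namespace CfsgLib.AlmostCyclic.Exclusion

open Matrix

theorem decide_root : ∀ a : ZMod 5, 3 * a ^ 2 ≠ 1 := by decide

theorem decide_unip : ∀ t : ZMod 5, t ^ 4 - 3 * t ^ 2 + 1 = 0 → -(t ^ 3 - 2 * t) = 1 → t = 2 := by decide

theorem decide_trace : ∀ s : ZMod 5, 2 * s = -1 → s ^ 2 ≠ 1 := by decide

theorem decide_three : ∀ t : ZMod 5, t ^ 2 - 1 = 0 → -t = 1 → t = -1 := by decide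

theorem coeff_of_smul {F : Type*} [Field F] {y : Matrix (Fin 2) (Fin 2) F}
    (hy : ¬ (y 0 1 = 0 ∧ y 1 0 = 0 ∧ y 0 0 = y 1 1)) {c d : F} (h : c • y + d • (1 : Matrix (Fin 2) (Fin 2) F) = 1) :
    c = 0 ∧ d = 1 := by
  have h01 := congrFun (congrFun h 0) 1
  have h10 := congrFun (congrFun h 1) 0
  have h00 := congrFun (congrFun h 0) 0
  have h11 := congrFun (congrFun h 1) 1
  simp at h01 h10 h00 h11
  have hc : c = 0 := by
    by_contra hc
    exact hy ⟨h01.resolve_left hc, h10.resolve_left hc, mul_left_cancel₀ hc (by linear_combination h00 - h11)⟩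
  exact ⟨hc, by rw [hc] at h00; linear_combination h00⟩

variable [Fact (Nat.Prime 5)]

theorem trc_of_three {x : SpecialLinearGroup (Fin 2) (ZMod 5)} (hx : orderOf x = 3) :
    CfsgLib.Classical.Trace.trc x = -1 ∧ ¬ (x.1 0 1 = 0 ∧ x.1 1 0 = 0 ∧ x.1 0 0 = x.1 1 1) := by
  have hns := nonscalar (y := x) fun e => by
    have := orderOf_le_of_pow_eq_one two_pos (pow_two x ▸ e)
    omega
  refine ⟨?_, hns⟩
  set t := CfsgLib.Classical.Trace.trc x
  have hYY : x.1 * x.1 = t • x.1 - 1 := CfsgLib.Classical.Trace.sq_eq x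
  have h3 : x.1 * x.1 * x.1 = 1 := by
    have h := congrArg Subtype.val (pow_orderOf_eq_one x)
    rw [hx, pow_succ, pow_two] at h
    simpa using h
  have he : x.1 * x.1 * x.1 = (t ^ 2 - 1) • x.1 + (-t) • (1 : Matrix (Fin 2) (Fin 2) (ZMod 5)) := by
    rw [hYY, sub_mul, smul_mul_assoc, hYY, one_mul]
    module
  obtain ⟨h1, h2⟩ := coeff_of_smul hns (he.symm.trans h3)
  exact decide_three t h1 h2

/-- No element of order twelve. -/
theorem no_root_commute {x i : SpecialLinearGroup (Fin 2) (ZMod 5)} (hx : orderOf x = 3) (hi : i * i = -1)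
    (h : Commute i x) : False := by
  obtain ⟨ht, hns⟩ := trc_of_three hx
  obtain ⟨a, b, hab⟩ := exists_combination hns (show i.1 * x.1 = x.1 * i.1 from congrArg Subtype.val h.eq)
  have hti : CfsgLib.Classical.Trace.trc i = 0 := by
    have h1 : i.1 * i.1 = -1 := congrArg Subtype.val hi
    have h2 := CfsgLib.Classical.Trace.sq_eq i
    rw [h1, eq_sub_iff_add_eq, neg_add_cancel] at h2
    rcases smul_eq_zero.1 h2.symm with e | e
    · exact e
    · exfalso
      have := i.2
      rw [show (i : Matrix (Fin 2) (Fin 2) (ZMod 5)) = 0 from e, Matrix.det_zero] at this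
      exact zero_ne_one this
  have hd := CfsgLib.Classical.Trace.det_eq i
  have hdx := CfsgLib.Classical.Trace.det_eq x
  unfold CfsgLib.Classical.Trace.trc at hti ht
  rw [hab] at hti hd
  simp at hti hd
  exact decide_root a (by linear_combination hd - b ^ 2 * hdx - a * b * ht + (b + a) * (hti - b * ht))

/-- No element of order fifteen. -/
theorem no_five_commute {x f : SpecialLinearGroup (Fin 2) (ZMod 5)} (hx : orderOf x = 3) (hf : orderOf f = 5)
    (h : Commute x f) : False := by
  obtain ⟨ht, -⟩ := trc_of_three hx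
  have hns := nonscalar (y := f) fun e => by
    have := orderOf_le_of_pow_eq_one two_pos (pow_two f ▸ e)
    omega
  set t := CfsgLib.Classical.Trace.trc f with htdef
  have hYY : f.1 * f.1 = t • f.1 - 1 := CfsgLib.Classical.Trace.sq_eq f
  have h5 : f.1 * f.1 * (f.1 * f.1) * f.1 = 1 := by
    have h := congrArg Subtype.val (pow_orderOf_eq_one f)
    rw [hf, pow_succ, show f ^ 4 = f * f * (f * f) by simp [pow_succ, mul_assoc]] at h
    simpa using h
  have he : f.1 * f.1 * (f.1 * f.1) * f.1 =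
      (t ^ 4 - 3 * t ^ 2 + 1) • f.1 + (-(t ^ 3 - 2 * t)) • (1 : Matrix (Fin 2) (Fin 2) (ZMod 5)) := by
    simp only [hYY, sub_mul, mul_sub, smul_mul_assoc, mul_smul_comm, one_mul, mul_one, smul_sub]
    module
  obtain ⟨h1, h2⟩ := coeff_of_smul hns (he.symm.trans h5)
  have ht2 : t = 2 := decide_unip t h1 h2
  obtain ⟨a, b, hab⟩ := exists_combination hns (show x.1 * f.1 = f.1 * x.1 from congrArg Subtype.val h.eq)
  have hdx := CfsgLib.Classical.Trace.det_eq x
  have hd := CfsgLib.Classical.Trace.det_eq f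
  have htf : f.1 0 0 + f.1 1 1 = 2 := ht2
  unfold CfsgLib.Classical.Trace.trc at ht
  rw [hab] at hdx ht
  simp at hdx ht
  exact decide_trace (a + b) (by linear_combination ht - b * htf) (by linear_combination hdx - b ^ 2 * hd - a * b * htf)

end CfsgLib.AlmostCyclic.Exclusion
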