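import Cfsg.Agent.Lib.AlmostCyclic.Exclusion.Local
import Cfsg.Agent.Lib.AlmostCyclic.Exclusion.SLFive
import Cfsg.Agent.Lib.AlmostCyclic.Exclusion.Counting
import Cfsg.Agent.Lib.AlmostCyclic.Structure
import Cfsg.Agent.Lib.AlmostCyclic.Radical
import Mathlib.GroupTheory.FixedPointFree

/-!
# The family with `p = 5` does not occur (owner: helper7)
-/

set_option autoImplicit false

namespace CfsgLib.AlmostCyclic.Exclusion

open Cfsg CfsgLib
open scoped MatrixGroups

universe u

/-- No smaller group is a counterexample. -/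
def Below (n : ℕ) : Prop :=
  ∀ (R : Type u) [Group R] [Finite R] [IsSimpleGroup R] (_ : ¬ IsMulCommutative R) (_ : Hyp R)
    (T : Sylow 2 R), Nat.card R < n → IsQuasiDihedral (T : Subgroup R) → False

theorem sq_cases_SL {p : ℕ} [Fact p.Prime] (hp : p ≠ 2) {X : Type*} [Group X] (e : X ≃* SL(2, ZMod p)) {w : X}
    (hw : w * w = 1) : w = 1 ∨ w = e.symm (-1) := by
  have h2 : (2 : ZMod p) ≠ 0 := by
    intro h
    have h' : ((2 : ℕ) : ZMod p) = 0 := by exact_mod_cast h
    rw [ZMod.natCast_eq_zero_iff] at h'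
    exact hp ((Nat.prime_dvd_prime_iff_eq Fact.out Nat.prime_two).1 h')
  rcases Blocks.WLocal.sl_involution h2 (x := e w) (by rw [← map_mul, hw, map_one]) with h | h
  · exact Or.inl (e.injective (h.trans (map_one e).symm))
  · exact Or.inr (by rw [← h, MulEquiv.symm_apply_apply])

theorem orderOf_neg_one {p : ℕ} [Fact p.Prime] (hp : p ≠ 2) : orderOf (-1 : SL(2, ZMod p)) = 2 := by
  refine orderOf_eq_prime (by rw [pow_two, neg_mul_neg, one_mul]) fun h => ?_
  have h2 := congrArg (fun s : SL(2, ZMod p) => s.1 0 0) h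
  simp at h2
  have h3 : ((2 : ℕ) : ZMod p) = 0 := by push_cast; linear_combination -h2
  rw [ZMod.natCast_eq_zero_iff] at h3
  exact hp ((Nat.prime_dvd_prime_iff_eq Fact.out Nat.prime_two).1 h3)

theorem card_le_two_of_sq {p : ℕ} [Fact p.Prime] (hp : p ≠ 2) {X : Type*} [Group X] [Finite X]
    (e : X ≃* SL(2, ZMod p)) (A : Subgroup X) (hA : ∀ a ∈ A, a * a = 1) : Nat.card A ≤ 2 := by
  classical
  let f : A → Bool := fun a => decide ((a : X) = 1)
  have hf : Function.Injective f := fun a b h => by
    have hiff : (a : X) = 1 ↔ (b : X) = 1 := by simpa [f] using h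
    apply Subtype.ext
    rcases sq_cases_SL hp e (hA a a.2) with ha | ha
    · rw [ha, hiff.1 ha]
    · rcases sq_cases_SL hp e (hA b b.2) with hb | hb
      · rw [hb, hiff.2 hb]
      · rw [ha, hb]
  exact (Nat.card_le_card_of_injective f hf).trans_eq (by simp)

theorem mem_of_orderOf {X : Type*} [Group X] [Finite X] (N : Subgroup X) [N.Normal] {w : X} {l : ℕ}
    (hl : l.Prime) (hw : orderOf w = l) (hN : ¬ l ∣ N.index) : w ∈ N := by
  rw [← QuotientGroup.eq_one_iff, ← orderOf_eq_one_iff]
  have h1 : orderOf (QuotientGroup.mk' N w) ∣ l := hw ▸ orderOf_map_dvd _ _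
  rcases (Nat.dvd_prime hl).1 h1 with e | e
  · exact e
  · refine absurd ?_ hN
    rw [Subgroup.index_eq_card, ← e]
    exact orderOf_dvd_natCard _

variable {G : Type u} [Group G] [Fintype G] {z : G} {M : Ideal AlgInt} [M.IsPrime] {m : ℕ} {Q : ℤ} {p : ℕ}
  [Fact p.Prime] {S : Sylow 2 G} {ρ : Blocks.SemiOrder.R m → Subgroup.centralizer ({z} : Set G)}
  {τ : Subgroup.centralizer ({z} : Set G)} {st : Subgroup.centralizer ({z} : Set G) → ℂ}
  (X : Ctx M m Q p S ρ τ st) (hp : p = 5)
include X hp

/-- The perfect core of the centraliser is `SL(2, 5)` and lies over the normal `SL₂`. -/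
theorem Ctx.exists_core (hm : m = 0) :
    ∃ H : Subgroup (Subgroup.centralizer ({z} : Set G)), H.Normal ∧ commutator H = ⊤ ∧
      Nonempty (H ≃* SL(2, ZMod p)) ∧ τ ∉ H := by
  classical
  have : Fact (Nat.Prime 2) := ⟨Nat.prime_two⟩
  obtain ⟨N, hNn, ⟨e⟩⟩ := X.normal_sl
  let π := QuotientGroup.mk' (oddCore (Subgroup.centralizer ({z} : Set G)))
  have hπ : Function.Surjective π := QuotientGroup.mk'_surjective _
  have hF : 4 ≤ Fintype.card (ZMod p) := by rw [ZMod.card]; omega
  have hNperf : _root_.commutator N = ⊤ := commutator_top_map (Classical.commutator_SL_two_eq_top hF)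
    e.symm.toMonoidHom e.symm.surjective
  have hcardN : Nat.card N = 120 := by
    rw [Nat.card_congr e.toEquiv, Classical.Two.card_SL_two, ZMod.card, hp]; norm_num
  obtain ⟨n, H, hH, hHn, hHperf, -⟩ := exists_radical (Subgroup.centralizer ({z} : Set G))
  have hCbar : Hyp (Subgroup.centralizer ({z} : Set G) ⧸ oddCore (Subgroup.centralizer ({z} : Set G))) :=
    (X.hyp.subgroup _).of_surjective π hπ
  have hNle : N ≤ H.map π := by
    rw [hH, map_derivedSeries_eq hπ]
    exact perfect_le_derivedSeries (bracket_eq_of_perfect hNperf) n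
  have hle : H.map π ≤ N := by
    set P := (H.map π).map (QuotientGroup.mk' N) with hP
    have hPb : ⁅P, P⁆ = P := by
      rw [hP, Subgroup.map_map]
      exact map_commutator_eq hHperf _
    have hPperf : _root_.commutator P = ⊤ := Group.isPerfect_def.1 (Subgroup.isPerfect_iff.2 hPb)
    have hPH : Hyp P := (hCbar.of_surjective _ (QuotientGroup.mk'_surjective N)).subgroup P
    have hP1 : Nat.card P = 1 := by
      by_contra hne
      have hev : Even (Nat.card P) := by
        by_contra ho
        exact hne (card_eq_one_of_odd hPH hPperf (Nat.not_even_iff_odd.1 ho))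
      have h2 : padicValNat 2 (Nat.card P) ≤ 1 := by
        have h1 : Nat.card N * Nat.card P ∣ Nat.card (Subgroup.centralizer ({z} : Set G)) := by
          refine dvd_trans ?_ (Subgroup.card_quotient_dvd_card
            (oddCore (Subgroup.centralizer ({z} : Set G))))
          rw [← N.card_mul_index, Subgroup.index_eq_card]
          exact mul_dvd_mul_left _ (Subgroup.card_subgroup_dvd_card P)
        obtain ⟨q, hq⟩ := h1
        have hc := X.val_two.1
        have hq0 : q ≠ 0 := by rintro rfl; rw [mul_zero] at hq; exact Nat.card_pos.ne' hq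
        rw [hq, padicValNat.mul (mul_ne_zero Nat.card_pos.ne' Nat.card_pos.ne') hq0,
          padicValNat.mul Nat.card_pos.ne' Nat.card_pos.ne', hcardN, show (120 : ℕ) = 2 ^ 3 * 15 by norm_num,
          padicValNat.mul (by norm_num) (by norm_num), padicValNat.prime_pow, hm] at hc
        omega
      obtain ⟨T⟩ := (inferInstance : Nonempty (Sylow 2 P))
      have hT : IsCyclic (T : Subgroup P) := by
        have hTc : Nat.card (T : Subgroup P) = 2 := by
          rw [T.card_eq_multiplicity, Nat.factorization_def _ Nat.prime_two]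
          have h3 : 1 ≤ padicValNat 2 (Nat.card P) :=
            one_le_padicValNat_of_dvd Nat.card_pos.ne' (even_iff_two_dvd.1 hev)
          rw [show padicValNat 2 (Nat.card P) = 1 by omega, pow_one]
        exact isCyclic_of_prime_card hTc
      obtain ⟨L, hL⟩ := Signalizer.index_two_of_cyclic_sylow hev T hT
      exact no_index_two_of_perfect hPperf L hL
    intro w hw
    have hmem : QuotientGroup.mk' N w ∈ P := Subgroup.mem_map_of_mem _ hw
    rw [Subgroup.card_eq_one.1 hP1, Subgroup.mem_bot] at hmem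
    exact (QuotientGroup.eq_one_iff w).1 hmem
  have heq := le_antisymm hle hNle
  have hHH : Hyp H := (X.hyp.subgroup _).subgroup H
  have hbot : (oddCore (Subgroup.centralizer ({z} : Set G))).subgroupOf H = ⊥ := by
    refine eq_bot_iff.2 ((GW.Deps.le_core ?_).trans (oddCore_eq_bot hHH hHperf).le)
    refine (GW.Deps.odd_card_core (Subgroup.centralizer ({z} : Set G))).of_dvd_nat ?_
    exact Subgroup.card_comap_dvd_of_injective _ _ H.subtype_injective
  have hinj : Function.Injective (π.comp H.subtype) := by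
    refine (injective_iff_map_eq_one _).2 fun a ha => ?_
    have h1 : a ∈ (oddCore (Subgroup.centralizer ({z} : Set G))).subgroupOf H := (QuotientGroup.eq_one_iff (N := oddCore (Subgroup.centralizer ({z} : Set G))) (a : Subgroup.centralizer ({z} : Set G))).1 ha
    rwa [hbot, Subgroup.mem_bot] at h1
  have hr : (π.comp H.subtype).range = N := by
    rw [MonoidHom.range_comp, Subgroup.range_subtype, heq]
  refine ⟨H, hHn, hHperf, ⟨((MonoidHom.ofInjective hinj).trans (MulEquiv.subgroupCongr hr)).trans e⟩,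
    fun hmem => X.tau_notMem e ?_⟩
  exact heq.le (Subgroup.mem_map_of_mem π hmem)

omit hp in
/-- The central involution lies in that core. -/
theorem Ctx.z_mem {H : Subgroup (Subgroup.centralizer ({z} : Set G))} [H.Normal]
    (e : H ≃* SL(2, ZMod p)) (hτ : τ ∉ H) : ((e.symm (-1) : H) : G) = z := by
  set ι : Subgroup.centralizer ({z} : Set G) := (e.symm (-1)).1 with hι
  have h2 : orderOf ι = 2 := by
    rw [hι, Subgroup.orderOf_coe, MulEquiv.orderOf_eq, orderOf_neg_one X.odd_p]
  rcases X.loc.involution_cases (g := ι) (by rw [← pow_two, ← h2, pow_orderOf_eq_one])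
    (fun h => by rw [h, orderOf_one] at h2; norm_num at h2) with h | h
  · show (ι : G) = z
    rw [h, X.rho_half]
  · obtain ⟨c, hc⟩ := isConj_iff.1 h
    refine absurd ?_ hτ
    have hmem := ‹H.Normal›.conj_mem ι (e.symm (-1)).2 c⁻¹
    rwa [← hc, inv_inv, show c⁻¹ * (c * τ * c⁻¹) * c = τ by group] at hmem

set_option quotPrecheck false in
local notation "Cz" => Subgroup.centralizer ({z} : Set G)

set_option quotPrecheck false in
local notation "cZ" => Nat.card (Subgroup.centralizer ({z} : Set G))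

set_option quotPrecheck false in
local notation "gG" => Nat.card G

set_option quotPrecheck false in
local notation "uT" => Nat.card (Subgroup.centralizer ({τ} : Set (Subgroup.centralizer ({z} : Set G))))

set_option maxHeartbeats 1000000 in
/-- **The family does not occur**, given that no smaller group is a counterexample. -/
theorem Ctx.false_of_five (hIH : Below.{u} (Nat.card G)) (hm : m = 0)
    (heq : Nat.card G * Nat.card (Subgroup.centralizer ({τ} : Set (Subgroup.centralizer ({z} : Set G)))) ^ 2 * 400 =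
      357 * Nat.card (Subgroup.centralizer ({z} : Set G)) ^ 3)
    (hg3 : padicValNat 3 (Nat.card G) = padicValNat 3 (Nat.card (Subgroup.centralizer ({z} : Set G))) + 1)
    (hu3 : padicValNat 3 (Nat.card (Subgroup.centralizer ({τ} : Set (Subgroup.centralizer ({z} : Set G))))) =
      padicValNat 3 (Nat.card (Subgroup.centralizer ({z} : Set G)))) : False := by
  classical
  subst hp
  have := X.simple
  have : Fact (Nat.Prime 2) := ⟨Nat.prime_two⟩
  have : Fact (Nat.Prime 3) := ⟨Nat.prime_three⟩
  have hcdef : cZ = Nat.card Cz := rfl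
  have hgdef : gG = Nat.card G := rfl
  have hudef : uT = Nat.card (Subgroup.centralizer ({τ} : Set Cz)) := rfl
  obtain ⟨H, hHn, hHperf, ⟨e⟩, hτH⟩ := X.exists_core rfl hm
  have hz0 := X.z_mem e hτH
  have hHcard : Nat.card H = 120 := by
    rw [Nat.card_congr e.toEquiv, Classical.Two.card_SL_two, ZMod.card]
    norm_num
  obtain ⟨G₀, X₀, hG₀, hidx, hX₀n, hX₀C, hX₀le, hHle, hgen, hcop, hX₀odd⟩ :=
    exists_odd_complement (X.hyp.subgroup Cz) H hHperf (by rw [hHcard]; decide) (p := 5) le_rfl (Or.inr ⟨e⟩)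
  set k := Nat.card X₀ with hkdef
  have hc : cZ = 240 * k := by
    have hsup : G₀ = H ⊔ X₀ := le_antisymm hgen (sup_le hHle hX₀le)
    have hbot : H ⊓ X₀ = ⊥ := Subgroup.inf_eq_bot_of_coprime hcop.symm
    have h1 : Nat.card G₀ = 120 * k := by
      have h2 := (X₀.subgroupOf (H ⊔ X₀)).card_mul_index
      rw [Nat.card_congr (Subgroup.subgroupOfEquivOfLe (le_sup_right (a := H))).toEquiv,
        show (X₀.subgroupOf (H ⊔ X₀)).index = X₀.relIndex (H ⊔ X₀) from rfl, Subgroup.relIndex_sup_right] at h2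
      have h3 : X₀.relIndex H = 120 := by
        rw [← Subgroup.inf_relIndex_right, inf_comm, hbot, Subgroup.relIndex_bot_left, hHcard]
      rw [hsup, ← h2, h3, mul_comm]
    have h4 := G₀.card_mul_index
    rw [h1] at h4
    rcases (Nat.dvd_prime Nat.prime_two).1 hidx with hi | hi <;> rw [hi] at h4
    · exfalso
      have h5 := X.val_two.1
      rw [← hcdef] at h5
      rw [show cZ = 2 ^ 3 * (15 * k) by omega, hm, padicValNat.mul (by norm_num)
        (mul_ne_zero (by norm_num) Nat.card_pos.ne'), padicValNat.prime_pow,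
        padicValNat.eq_zero_of_not_dvd (n := 15 * k) (by
          obtain ⟨j, hj⟩ := hX₀odd
          omega)] at h5
      omega
    · omega
  have hHidx : H.index = 2 * k := by
    have h1 := H.card_mul_index
    rw [hHcard, ← hcdef, hc] at h1
    omega
  have hX₀idx : X₀.index = 240 := by
    have h1 := X₀.card_mul_index
    rw [← hkdef, ← hcdef, hc, mul_comm 240 k] at h1
    exact Nat.eq_of_mul_eq_mul_left Nat.card_pos h1
  -- small elements of `Cz` lie in `H`
  have hHmem : ∀ w : Cz, orderOf w = 3 ∨ orderOf w = 5 → w ∈ H := fun w hw => by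
    have hd : ∀ l, l.Prime → l ∣ 120 → l ≠ 2 → ¬ l ∣ H.index := fun l hl hl120 hl2 hd => by
      rw [hHidx] at hd
      rcases hl.dvd_mul.1 hd with h | h
      · exact hl2 ((Nat.prime_dvd_prime_iff_eq hl Nat.prime_two).1 h)
      · exact hl.ne_one (Nat.eq_one_of_dvd_coprimes hcop h (hHcard ▸ hl120))
    rcases hw with hw | hw
    · exact mem_of_orderOf H Nat.prime_three hw (hd 3 Nat.prime_three (by norm_num) (by norm_num))
    · exact mem_of_orderOf H (by norm_num) hw (hd 5 (by norm_num) (by norm_num) (by norm_num))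
  have hz : z * z = 1 := by rw [← pow_two, ← X.order_z, pow_orderOf_eq_one]
  have hz1 : z ≠ 1 := fun h => by simpa [h] using X.order_z
  have h3c : 3 ∣ cZ := hc ▸ (dvd_mul_of_dvd_left (by norm_num) k)
  obtain ⟨x, T, y, hxo, hxz, hyx, hTx, hzT, hT4, hTsq, hyo, hyN, hne⟩ :=
    exists_four X.hyp hz hz1 (l := 3) (by norm_num) h3c (by omega)
  have hyT : ∀ a ∈ T, y * a * y⁻¹ ∈ T := fun a ha => (Subgroup.mem_normalizer_iff.1 hyN a).1 ha
  set t := y * z * y⁻¹ with ht
  have htT : t ∈ T := hyT z hzT
  have ht1 : t ≠ 1 := fun h => hz1 (conj_eq_one_iff.1 h)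
  have hTcomm : ∀ a ∈ T, ∀ b ∈ T, a * b = b * a := fun a ha b hb => by
    have h1 := hTsq _ (mul_mem ha hb)
    rw [eq_inv_of_mul_eq_one_left h1, _root_.mul_inv_rev, inv_eq_of_mul_eq_one_right (hTsq a ha),
      inv_eq_of_mul_eq_one_right (hTsq b hb)]
  -- the odd part of the centraliser is trivial
  have hk1 : k = 1 := by
    by_contra hk1
    obtain ⟨l, hl, hlk⟩ := Nat.exists_prime_and_dvd hk1
    have := Fact.mk hl
    have hl120 : ¬ l ∣ 120 := fun h => hl.ne_one (Nat.eq_one_of_dvd_coprimes hcop hlk (hHcard ▸ h))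
    have hl240 : ¬ l ∣ 240 := fun h => by
      rcases hl.dvd_mul.1 (show l ∣ 2 * 120 from h) with h' | h'
      · exact hl120 (h'.trans (by norm_num))
      · exact hl120 h'
    have hl2 : l ≠ 2 := fun h => hl120 (h ▸ by norm_num)
    have hlc : l ∣ cZ := hc ▸ hlk.mul_left 240
    have hgl : padicValNat l gG = padicValNat l cZ := by
      rcases X.exception hl hl2 hlc with h | ⟨h, -, -⟩
      · exact h
      · exact absurd (h ▸ (by norm_num : 3 ∣ 120)) hl120
    have hv := congrArg (padicValNat l) heq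
    rw [padicValNat.mul (mul_ne_zero Nat.card_pos.ne' (pow_ne_zero 2 Nat.card_pos.ne')) (by norm_num),
      padicValNat.mul Nat.card_pos.ne' (pow_ne_zero 2 Nat.card_pos.ne'), padicValNat.pow,
      padicValNat.mul (by norm_num) (pow_ne_zero 3 Nat.card_pos.ne'), padicValNat.pow, hgl,
      padicValNat.eq_zero_of_not_dvd (n := 400) (fun h => by
        rcases hl.dvd_mul.1 (show l ∣ 2 ^ 4 * 5 ^ 2 from h) with h' | h'
        · exact hl2 ((Nat.prime_dvd_prime_iff_eq hl Nat.prime_two).1 (hl.dvd_of_dvd_pow h'))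
        · exact hl120 ((hl.dvd_of_dvd_pow h').trans (by norm_num)))] at hv
    have hle : padicValNat l uT ≤ padicValNat l cZ :=
      (padicValNat_dvd_iff_le Nat.card_pos.ne').1 (pow_padicValNat_dvd.trans (Subgroup.card_subgroup_dvd_card _))
    have h1c : 1 ≤ padicValNat l cZ := one_le_padicValNat_of_dvd Nat.card_pos.ne' hlc
    have hlu : l ∣ uT := dvd_of_one_le_padicValNat (by omega)
    let tC : Cz := ⟨t, Subgroup.mem_centralizer_singleton_iff.2 (hTcomm t htT z hzT)⟩
    have htu := X.card_centralizer_invol (t := tC) (Subtype.ext (hTsq t htT))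
      (fun h => ht1 (congrArg Subtype.val h)) hne
    obtain ⟨w₀, hw₀⟩ := exists_prime_orderOf_dvd_card' (G := Subgroup.centralizer ({tC} : Set Cz)) l
      (htu ▸ hlu)
    set w : G := ((w₀ : Cz) : G)
    have hwo : orderOf w = l := by rw [Subgroup.orderOf_coe, Subgroup.orderOf_coe, hw₀]
    have hwt : Commute w t := congrArg Subtype.val (Subgroup.mem_centralizer_singleton_iff.1 w₀.2)
    have hwX : (w₀ : Cz) ∈ X₀ := mem_of_orderOf X₀ hl (by rw [Subgroup.orderOf_coe, hw₀]) (hX₀idx ▸ hl240)
    have hw' : y⁻¹ * w * y ∈ Cz := by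
      refine Subgroup.mem_centralizer_singleton_iff.2 ?_
      have := (hwt.map (MulAut.conj y⁻¹)).eq
      simp only [MulAut.conj_apply, inv_inv, ht] at this
      simpa [mul_assoc] using this
    have hwX' : (⟨_, hw'⟩ : Cz) ∈ X₀ := mem_of_orderOf X₀ hl (by
      rw [← Subgroup.orderOf_coe]
      show orderOf (y⁻¹ * w * y) = l
      rw [show y⁻¹ * w * y = MulAut.conj y⁻¹ w by simp, MulEquiv.orderOf_eq, hwo])
      (hX₀idx ▸ hl240)
    set D := Subgroup.centralizer ({w} : Set G)
    set HG : Subgroup G := H.map (Cz).subtype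
    set HG' : Subgroup G := HG.map (MulAut.conj y).toMonoidHom
    have hHD : HG ≤ D := by
      rintro _ ⟨a, ha, rfl⟩
      exact Subgroup.mem_centralizer_singleton_iff.2
        (congrArg Subtype.val (Subgroup.mem_centralizer_iff.1 (hX₀C hwX) a ha))
    have hH'D : HG' ≤ D := by
      rintro _ ⟨_, ⟨a, ha, rfl⟩, rfl⟩
      refine Subgroup.mem_centralizer_singleton_iff.2 ?_
      have h1 : Commute (a : G) (y⁻¹ * w * y) :=
        congrArg Subtype.val (Subgroup.mem_centralizer_iff.1 (hX₀C hwX') a ha)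
      have := (h1.map (MulAut.conj y)).eq
      simpa [mul_assoc] using this
    have hHGb : ⁅HG, HG⁆ = HG := map_commutator_eq hHperf (Cz).subtype
    have hHG'b : ⁅HG', HG'⁆ = HG' := by rw [← Subgroup.map_commutator, hHGb]
    obtain ⟨-, R, -, hRn, hRperf, hRle⟩ := exists_radical D
    have hR1 := hRle _ (commutator_subgroupOf_eq hHD hHGb)
    have hR2 := hRle _ (commutator_subgroupOf_eq hH'D hHG'b)
    have hzHG : z ∈ HG := ⟨_, (e.symm (-1)).2, hz0⟩
    have hzD : z ∈ D := hHD hzHG
    have htHG' : t ∈ HG' := ⟨z, hzHG, rfl⟩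
    have htD : t ∈ D := hH'D htHG'
    set zR : R := ⟨⟨z, hzD⟩, hR1 hzHG⟩
    set tR : R := ⟨⟨t, htD⟩, hR2 htHG'⟩
    have hRH : Hyp R := (X.hyp.subgroup D).subgroup R
    have hzRo : orderOf zR = 2 := by rw [← Subgroup.orderOf_coe, ← Subgroup.orderOf_coe]; exact X.order_z
    have hev : Even (Nat.card R) := even_iff_two_dvd.2 (hzRo ▸ orderOf_dvd_natCard zR)
    have hRne : Nat.card R ≠ 1 := fun h => by rw [h] at hev; exact Nat.not_even_one hev
    obtain ⟨SR⟩ := (inferInstance : Nonempty (Sylow 2 R))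
    rcases sylow_type hRH hRperf hev SR with ⟨n, -, ⟨eD⟩⟩ | hr | hQ
    · -- dihedral
      let ι : H →* R :=
        { toFun := fun a => ⟨⟨((a : Cz) : G), hHD ⟨a, a.2, rfl⟩⟩, hR1 ⟨a, a.2, rfl⟩⟩
          map_one' := rfl
          map_mul' := fun _ _ => rfl }
      have hι : Function.Injective ι := fun a b h =>
        Subtype.ext (Subtype.ext (congrArg (fun w : R => ((w : D) : G)) h))
      obtain ⟨QH⟩ := (inferInstance : Nonempty (Sylow 2 H))
      obtain ⟨S', hS'⟩ := (QH.isPGroup'.map ι).exists_le_sylow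
      let j : (QH : Subgroup H) →* DihedralGroup n :=
        ((Sylow.equiv S' SR).trans eD).toMonoidHom.comp ((Subgroup.inclusion hS').comp (ι.subgroupMap QH))
      have hj : Function.Injective j := by
        refine ((Sylow.equiv S' SR).trans eD).injective.comp ((Subgroup.inclusion_injective hS').comp ?_)
        intro a b h
        exact Subtype.ext (hι (congrArg Subtype.val h))
      have hQH8 : Nat.card (QH : Subgroup H) = 8 := by
        rw [QH.card_eq_multiplicity, Nat.factorization_def _ Nat.prime_two, hHcard,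
          show (120 : ℕ) = 2 ^ 3 * 15 by norm_num, padicValNat.mul (by norm_num) (by norm_num), padicValNat.prime_pow,
          padicValNat.eq_zero_of_not_dvd (by norm_num)]
        norm_num
      have hrot : ∀ q : (QH : Subgroup H), q * q ≠ 1 → j q ∈ Subgroup.zpowers (DihedralGroup.r (1 : ZMod n)) := by
        intro q hq
        rcases hjq : j q with i | i
        · obtain ⟨i', rfl⟩ := ZMod.intCast_surjective i
          exact ⟨i', by simp [DihedralGroup.r_one_zpow]⟩
        · exact absurd (hj (by rw [map_mul, map_one, hjq, DihedralGroup.sr_mul_self])) hq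
      obtain ⟨q₀, hq₀⟩ : ∃ q₀ : (QH : Subgroup H), q₀ * q₀ ≠ 1 := by
        by_contra hall
        push Not at hall
        have := card_le_two_of_sq X.odd_p e (QH : Subgroup H) fun a ha => congrArg Subtype.val (hall ⟨a, ha⟩)
        omega
      have hall : ∀ q, j q ∈ Subgroup.zpowers (DihedralGroup.r (1 : ZMod n)) := by
        intro q
        by_cases hq : q * q = 1
        · by_cases hqq : q * q₀ * (q * q₀) = 1
          · exfalso
            rcases sq_cases_SL X.odd_p e (congrArg Subtype.val hq) with h | h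
            · rw [show q = 1 from Subtype.ext h, one_mul] at hqq
              exact hq₀ hqq
            · rcases sq_cases_SL X.odd_p e (congrArg Subtype.val hqq) with h' | h'
              · have : q * q₀ = 1 := Subtype.ext h'
                rw [eq_inv_of_mul_eq_one_right this, ← _root_.mul_inv_rev, hq, inv_one] at hq₀
                exact hq₀ rfl
              · have : q * q₀ = q * 1 := by rw [mul_one]; exact Subtype.ext (h'.trans h.symm)
                rw [mul_left_cancel this, mul_one] at hq₀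
                exact hq₀ rfl
          · have := mul_mem (hrot _ hqq) (inv_mem (hrot q₀ hq₀))
            rwa [map_mul, mul_inv_cancel_right] at this
        · exact hrot q hq
      have hcyc : IsCyclic (QH : Subgroup H) :=
        isCyclic_of_injective (j.codRestrict _ hall) fun a b h => hj (congrArg Subtype.val h)
      obtain ⟨L, hL⟩ := Signalizer.index_two_of_cyclic_sylow (by rw [hHcard]; decide) QH hcyc
      exact no_index_two_of_perfect hHperf L hL
    · -- rank one
      let A : Subgroup R := T.comap (D.subtype.comp R.subtype)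
      have hAT : ∀ a : A, (((a : R) : D) : G) ∈ T := fun a => a.2
      have hA : Nat.card A ≤ 2 ^ 1 := hr A
        ⟨⟨fun a b => Subtype.ext (Subtype.ext (Subtype.ext (hTcomm _ (hAT a) _ (hAT b))))⟩⟩
        fun a ha => Subtype.ext (Subtype.ext (by
          push_cast
          rw [pow_two]
          exact hTsq _ ha))
      have := Fintype.ofFinite A
      have h3 : ({1, ⟨zR, hzT⟩, ⟨tR, htT⟩} : Finset A).card = 3 := by
        rw [Finset.card_insert_of_notMem, Finset.card_pair]
        · intro h
          exact hne (congrArg (fun a : A => (((a : R) : D) : G)) h).symm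
        · simp only [Finset.mem_insert, Finset.mem_singleton, not_or]
          exact ⟨fun h => hz1 (congrArg (fun a : A => (((a : R) : D) : G)) h).symm,
            fun h => ht1 (congrArg (fun a : A => (((a : R) : D) : G)) h).symm⟩
      have := (h3 ▸ Finset.card_le_univ ({1, ⟨zR, hzT⟩, ⟨tR, htT⟩} : Finset A) : 3 ≤ Fintype.card A)
      rw [← Nat.card_eq_fintype_card] at this
      omega
    · -- semidihedral: a smaller counterexample
      obtain ⟨hs, hna⟩ := simple_of_quasiDihedral hRH hRperf hRne SR hQ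
      refine hIH R hna hRH SR ?_ hQ
      refine lt_of_le_of_lt (Subgroup.card_le_card_group R) (lt_of_le_of_ne (Subgroup.card_le_card_group D) fun h => ?_)
      have hD : D = ⊤ := Subgroup.card_eq_iff_eq_top _ |>.1 h
      have hwZ : w ∈ Subgroup.center G := Subgroup.mem_center_iff.2 fun a =>
        Subgroup.mem_centralizer_singleton_iff.1 (hD ▸ Subgroup.mem_top a : a ∈ D)
      rcases Subgroup.Normal.eq_bot_or_eq_top (H := Subgroup.center G) inferInstance with h' | h'
      · rw [h', Subgroup.mem_bot] at hwZ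
        rw [hwZ, orderOf_one] at hwo
        exact hl.ne_one hwo.symm
      · exact X.nonab ⟨⟨fun a b => (Subgroup.mem_center_iff.1 (h' ▸ Subgroup.mem_top b) a)⟩⟩
  -- the orders
  have hc240 : cZ = 240 := by rw [hc, hk1, mul_one]
  have hudvd : uT ∣ 240 := hc240 ▸ Subgroup.card_subgroup_dvd_card _
  have hu12 : uT = 12 := by
    have : Fact (Nat.Prime 5) := ⟨by norm_num⟩
    have v2c : padicValNat 2 uT = 2 := X.val_two.2.2
    have v3c : padicValNat 3 uT = 1 := by
      rw [hu3, hc240, show (240 : ℕ) = 3 * 80 by norm_num]; exact val_one (by norm_num)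
    have v5g : padicValNat 5 gG = padicValNat 5 cZ := by
      rcases X.exception (l := 5) (by norm_num) (by norm_num) (hc240 ▸ by norm_num : 5 ∣ cZ) with h | ⟨h, -, -⟩
      · exact h
      · norm_num at h
    have v5u : padicValNat 5 uT = 0 := by
      have hv := congrArg (padicValNat 5) heq
      rw [padicValNat.mul (mul_ne_zero Nat.card_pos.ne' (pow_ne_zero 2 Nat.card_pos.ne')) (by norm_num),
        padicValNat.mul Nat.card_pos.ne' (pow_ne_zero 2 Nat.card_pos.ne'), padicValNat.pow, v5g,
        padicValNat.mul (by norm_num) (pow_ne_zero 3 Nat.card_pos.ne'), padicValNat.pow,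
        padicValNat.eq_zero_of_not_dvd (n := 357) (by norm_num), hc240,
        show (400 : ℕ) = 5 ^ 2 * 16 by norm_num, padicValNat.mul (by norm_num) (by norm_num),
        padicValNat.prime_pow, padicValNat.eq_zero_of_not_dvd (n := 16) (by norm_num),
        show (240 : ℕ) = 5 * 48 by norm_num, val_one (by norm_num)] at hv
      omega
    refine (Nat.eq_iff_prime_padicValNat_eq uT 12 Nat.card_pos.ne' (by norm_num)).2 fun q hq => ?_
    have := Fact.mk hq
    by_cases h : q = 2 ∨ q = 3 ∨ q = 5
    · rcases h with rfl | rfl | rfl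
      · rw [v2c, show (12 : ℕ) = 2 ^ 2 * 3 by norm_num, padicValNat.mul (by norm_num) (by norm_num),
          padicValNat.prime_pow, padicValNat.eq_zero_of_not_dvd (by norm_num)]
      · rw [v3c, show (12 : ℕ) = 3 * 4 by norm_num, val_one (by norm_num)]
      · rw [v5u, padicValNat.eq_zero_of_not_dvd (by norm_num)]
    · push Not at h
      have hq240 : ¬ q ∣ 240 := fun hd => by
        rcases hq.dvd_mul.1 (show q ∣ 2 ^ 4 * (3 * 5) from hd) with h' | h'
        · exact h.1 ((Nat.prime_dvd_prime_iff_eq hq Nat.prime_two).1 (hq.dvd_of_dvd_pow h'))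
        · rcases hq.dvd_mul.1 h' with h' | h'
          · exact h.2.1 ((Nat.prime_dvd_prime_iff_eq hq Nat.prime_three).1 h')
          · exact h.2.2 ((Nat.prime_dvd_prime_iff_eq hq (by norm_num)).1 h')
      rw [padicValNat.eq_zero_of_not_dvd fun hd => hq240 (hd.trans hudvd),
        padicValNat.eq_zero_of_not_dvd fun hd => hq240 (hd.trans (by norm_num : 12 ∣ 240))]
  have hg : gG = 85680 := by rw [hu12, hc240] at heq; omega
  have hvg : padicValNat 3 gG = 2 := by
    rw [hg3, hc240, show (240 : ℕ) = 3 * 80 by norm_num, val_one (by norm_num)]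
  -- the centraliser of `x`
  set D := Subgroup.centralizer ({x} : Set G)
  have hyD : y ∈ D := Subgroup.mem_centralizer_singleton_iff.2 hyx.eq
  have hTD : T ≤ D := fun a ha => Subgroup.mem_centralizer_singleton_iff.2 (hTx a ha).eq
  have hxD : x ∈ D := Subgroup.mem_centralizer_singleton_iff.2 rfl
  have hyo2 : orderOf y = 3 ^ 2 := by rw [hyo, ← hgdef, hvg]
  have hy9 : orderOf y = 9 := by rw [hyo2]; norm_num
  obtain ⟨P, hP⟩ := (IsPGroup.of_card (G := Subgroup.zpowers (⟨y, hyD⟩ : D)) (p := 3) (n := 2) (by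
    rw [Nat.card_zpowers, Subgroup.orderOf_mk, hyo2])).exists_le_sylow
  have hPc : Nat.card (P : Subgroup D) = 9 := by
    have hvD : padicValNat 3 (Nat.card D) ≤ 2 := by
      rw [← hvg]
      exact (padicValNat_dvd_iff_le Nat.card_pos.ne').1
        (pow_padicValNat_dvd.trans (Subgroup.card_subgroup_dvd_card D))
    rw [P.card_eq_multiplicity, Nat.factorization_def _ Nat.prime_three]
    have h2 : 2 ≤ padicValNat 3 (Nat.card D) := by
      refine (padicValNat_dvd_iff_le Nat.card_pos.ne').1 ?_
      rw [← hyo2, ← Subgroup.orderOf_mk y hyD]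
      exact orderOf_dvd_natCard _
    rw [le_antisymm hvD h2]
    norm_num
  have : IsCyclic (P : Subgroup D) := (X.hyp.subgroup D).odd 3 Nat.prime_three (by norm_num) _ P.isPGroup'
  have hxy : x ∈ Subgroup.zpowers (y ^ 3) := X.hyp.mem_zpowers (l := 3) Nat.prime_three (by norm_num)
    (by rw [orderOf_pow' y (by norm_num), hy9]; norm_num) hxo (hyx.pow_left 3)
  have hxP : (⟨x, hxD⟩ : D) ∈ (P : Subgroup D) := by
    obtain ⟨i, hi⟩ := hxy
    refine hP ⟨3 * i, Subtype.ext ?_⟩
    push_cast
    rw [zpow_mul]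
    simpa using hi
  have hxZ : (⟨x, hxD⟩ : D) ∈ Subgroup.center D :=
    Subgroup.mem_center_iff.2 fun w => Subtype.ext (Subgroup.mem_centralizer_singleton_iff.1 w.2)
  have hNC := normalizer_le_centralizer P hxZ hxP (by rw [Subgroup.orderOf_mk]; exact hxo)
  set K : Subgroup G := (MonoidHom.transferSylow P hNC).ker.map D.subtype with hKdef
  have hK3 : ¬ 3 ∣ Nat.card K := by
    rw [hKdef, Subgroup.card_map_of_injective D.subtype_injective]
    exact MonoidHom.not_dvd_card_ker_transferSylow P hNC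
  have hKD : K ≤ D := Subgroup.map_subtype_le _
  have hDcard : Nat.card D = 9 * Nat.card K := by
    rw [hKdef, Subgroup.card_map_of_injective D.subtype_injective, ← hPc, mul_comm]
    exact (MonoidHom.ker_transferSylow_isComplement' P hNC).card_mul_card.symm
  have hTK : T ≤ K := by
    intro a ha
    refine ⟨⟨a, hTD ha⟩, ?_, rfl⟩
    rw [SetLike.mem_coe, MonoidHom.mem_ker, ← orderOf_eq_one_iff]
    refine Nat.eq_one_of_dvd_coprimes (show Nat.Coprime 2 9 by norm_num) ?_ (hPc ▸ orderOf_dvd_natCard _)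
    exact (orderOf_map_dvd _ _).trans (orderOf_dvd_of_pow_eq_one (Subtype.ext (by rw [pow_two]; exact hTsq a ha)))
  have hyK : ∀ w ∈ K, y⁻¹ * w * y ∈ K := by
    rintro _ ⟨w, hw, rfl⟩
    have := (MonoidHom.normal_ker (MonoidHom.transferSylow P hNC)).conj_mem w hw (⟨y, hyD⟩ : D)⁻¹
    exact ⟨_, this, by simp⟩
  -- the centraliser of `z` in `K`
  have hCK : ∀ w ∈ K, Commute w z → w ∈ T := by
    set Mz : Subgroup G := K ⊓ Cz
    have hTM : T ≤ Mz := le_inf hTK fun a ha => Subgroup.mem_centralizer_singleton_iff.2 (hTcomm a ha z hzT)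
    have hMcop : ¬ 3 ∣ Nat.card Mz := fun h => hK3 (h.trans (Subgroup.card_dvd_of_le inf_le_left))
    have hxC : x ∈ Cz := Subgroup.mem_centralizer_singleton_iff.2 hxz.eq
    have hxH : (⟨x, hxC⟩ : Cz) ∈ H := hHmem _ (Or.inl (by rw [Subgroup.orderOf_mk, hxo]))
    have hxe : orderOf (e ⟨⟨x, hxC⟩, hxH⟩) = 3 := by
      rw [MulEquiv.orderOf_eq, Subgroup.orderOf_mk, Subgroup.orderOf_mk, hxo]
    have hcx : ∀ a : H, ((a : Cz) : G) ∈ K → Commute (e a) (e ⟨⟨x, hxC⟩, hxH⟩) := fun a ha => by
      refine Commute.map (Subtype.ext (Subtype.ext ?_) : Commute a ⟨⟨x, hxC⟩, hxH⟩) e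
      exact Subgroup.mem_centralizer_singleton_iff.1 (hKD ha)
    have hMc : Nat.card Mz ∣ 2 ^ 4 := by
      have h240 : Nat.card Mz ∣ 240 := hc240 ▸ Subgroup.card_dvd_of_le inf_le_right
      have h5 : ¬ 5 ∣ Nat.card Mz := by
        intro h
        have : Fact (Nat.Prime 5) := ⟨by norm_num⟩
        obtain ⟨f, hf⟩ := exists_prime_orderOf_dvd_card' 5 h
        have hfC : (f : G) ∈ Cz := f.2.2
        have hfH : (⟨f, hfC⟩ : Cz) ∈ H := hHmem _ (Or.inr (by rw [Subgroup.orderOf_mk, Subgroup.orderOf_coe, hf]))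
        exact no_five_commute hxe (f := e ⟨⟨f, hfC⟩, hfH⟩)
          (by rw [MulEquiv.orderOf_eq, Subgroup.orderOf_mk, Subgroup.orderOf_mk, Subgroup.orderOf_coe, hf])
          (hcx _ f.2.1).symm
      refine (Nat.Coprime.dvd_of_dvd_mul_left ?_ (h240.trans (by norm_num) : Nat.card Mz ∣ 15 * 2 ^ 4))
      refine Nat.Coprime.mul_right (k := Nat.card Mz) (m := 3) (n := 5) ?_ ?_
      · exact (Nat.prime_three.coprime_iff_not_dvd.2 hMcop).symm
      · exact ((by norm_num : Nat.Prime 5).coprime_iff_not_dvd.2 h5).symm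
    have hM4 : Nat.card Mz ≤ 4 := by
      by_contra hgt
      obtain ⟨i, -, hi⟩ := (Nat.dvd_prime_pow Nat.prime_two).1 hMc
      have hi3 : 8 ∣ Nat.card Mz := by
        rw [hi]
        refine (show 8 = 2 ^ 3 by norm_num) ▸ pow_dvd_pow 2 ?_
        by_contra hlt
        rw [hi] at hgt
        exact hgt ((Nat.pow_le_pow_right two_pos (show i ≤ 2 by omega)).trans_eq (by norm_num))
      set HG : Subgroup G := H.map (Cz).subtype
      let M4 : Subgroup H := (K.comap (Cz).subtype).subgroupOf H
      have hMH : 4 ≤ Nat.card M4 := by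
        let Mc : Subgroup Cz := K.comap (Cz).subtype
        have hMcc : Nat.card Mc = Nat.card Mz :=
          Nat.card_congr ⟨fun a => ⟨((a : Cz) : G), a.2, (a : Cz).2⟩, fun a => ⟨⟨a, a.2.2⟩, a.2.1⟩,
            fun _ => rfl, fun _ => rfl⟩
        have h1 := (H.subgroupOf Mc).card_mul_index
        have h2 : H.relIndex Mc ≤ 2 := by
          have := Nat.le_of_dvd (by omega) (Subgroup.relIndex_dvd_index_of_normal H Mc)
          rw [hHidx, hk1] at this
          omega
        have h3 : Nat.card (H.subgroupOf Mc) = Nat.card M4 := by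
          refine Nat.card_congr ⟨fun a => ⟨⟨(a : Mc), a.2⟩, (a : Mc).2⟩, fun a => ⟨⟨(a : H), a.2⟩, (a : H).2⟩,
            fun _ => rfl, fun _ => rfl⟩
        rw [h3, hMcc, show (H.subgroupOf Mc).index = H.relIndex Mc from rfl] at h1
        have h4 := Nat.le_of_dvd Nat.card_pos hi3
        by_contra hlt
        have : Nat.card M4 * H.relIndex Mc ≤ 3 * 2 := Nat.mul_le_mul (by omega) h2
        omega
      obtain ⟨q, hqM, hq2⟩ : ∃ q ∈ M4, q * q ≠ 1 := by
        by_contra hall
        push Not at hall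
        have := card_le_two_of_sq X.odd_p e M4 hall
        omega
      have hqp : orderOf q ∣ 2 ^ 4 := by
        have h1 : orderOf ((q : Cz) : G) ∣ Nat.card Mz := by
          rw [← Subgroup.orderOf_mk ((q : Cz) : G) (show _ ∈ Mz from ⟨hqM, (q : Cz).2⟩)]
          exact orderOf_dvd_natCard _
        rw [Subgroup.orderOf_coe, Subgroup.orderOf_coe] at h1
        exact h1.trans hMc
      obtain ⟨E, -, hE⟩ := (Nat.dvd_prime_pow Nat.prime_two).1 hqp
      have hE2 : 2 ≤ E := by
        by_contra hlt
        refine hq2 ?_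
        rw [← pow_two, ← orderOf_dvd_iff_pow_eq_one, hE]
        exact (pow_dvd_pow 2 (show E ≤ 1 by omega)).trans (by norm_num)
      set q' := q ^ 2 ^ (E - 2)
      have hq'M : q' ∈ M4 := pow_mem hqM _
      have hq'o : orderOf q' = 4 := by
        rw [orderOf_pow_of_dvd (by positivity) (hE ▸ pow_dvd_pow 2 (by omega)), hE,
          Nat.pow_div (by omega) two_pos, show E - (E - 2) = 2 by omega]
        norm_num
      have hq'z : q' * q' = e.symm (-1) := by
        refine (sq_cases_SL X.odd_p e (w := q' * q') ?_).resolve_left fun h => ?_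
        · rw [← pow_two, ← pow_two, ← pow_mul, ← hq'o.trans (show 4 = 2 * 2 by norm_num), pow_orderOf_eq_one]
        · have := orderOf_le_of_pow_eq_one two_pos (pow_two q' ▸ h)
          omega
      exact no_root_commute hxe (i := e q') (by rw [← map_mul, hq'z, MulEquiv.apply_symm_apply])
        (hcx _ hq'M)
    have hMT : T = Mz := Subgroup.eq_of_le_of_card_ge hTM (by omega)
    intro w hw hwz
    rw [hMT]
    exact ⟨hw, Subgroup.mem_centralizer_singleton_iff.2 hwz.eq⟩
  have hconj : ∀ s : G, (∀ w ∈ K, Commute w s → w ∈ T) → ∀ w ∈ K, Commute w (y * s * y⁻¹) → w ∈ T := by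
    intro s hs w hw hws
    have hws' : Commute (y⁻¹ * w * y) s := by
      have := hws.map (MulAut.conj y⁻¹)
      simpa [mul_assoc] using this
    have h1 := hyT _ (hs _ (hyK w hw) hws')
    rwa [show y * (y⁻¹ * w * y) * y⁻¹ = w by group] at h1
  -- the three involutions
  have hall : ∀ s ∈ T, s ≠ 1 → ∀ w ∈ K, Commute w s → w ∈ T := by
    have hCt := hconj z hCK
    have hCt' := hconj t hCt
    set t' := y * t * y⁻¹
    have ht't : t' ≠ t := fun h => hne ((mul_left_cancel (mul_right_cancel h)) : t = z)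
    have ht'z : t' ≠ z := fun h => by
      apply hne
      have h2 : Commute (y ^ 2) z := mul_inv_eq_iff_eq_mul.1 (by
        rw [pow_two, show y * y * z * (y * y)⁻¹ = y * (y * z * y⁻¹) * y⁻¹ by group]
        exact h)
      have h9 : y ^ 9 = 1 := hy9 ▸ pow_orderOf_eq_one y
      have h10 : y = (y ^ 2) ^ 5 := by rw [← pow_mul, show 2 * 5 = 9 + 1 by norm_num, pow_succ, h9, one_mul]
      rw [ht, h10, (h2.pow_left 5).eq, mul_inv_cancel_right]
    have ht'1 : t' ≠ 1 := fun h => ht1 (conj_eq_one_iff.1 h)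
    have ht'T : t' ∈ T := hyT t htT
    intro s hs hs1
    have := Fintype.ofFinite T
    have hu : ({1, ⟨z, hzT⟩, ⟨t, htT⟩, ⟨t', ht'T⟩} : Finset T) = Finset.univ := by
      refine Finset.eq_univ_of_card _ ?_
      rw [← Nat.card_eq_fintype_card, hT4, Finset.card_insert_of_notMem, Finset.card_insert_of_notMem,
        Finset.card_pair fun h => ht't (congrArg Subtype.val h).symm]
      · simp only [Finset.mem_insert, Finset.mem_singleton, not_or]
        exact ⟨fun h => hne (congrArg Subtype.val h).symm, fun h => ht'z (congrArg Subtype.val h).symm⟩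
      · simp only [Finset.mem_insert, Finset.mem_singleton, not_or]
        exact ⟨fun h => hz1 (congrArg Subtype.val h).symm, fun h => ht1 (congrArg Subtype.val h).symm,
          fun h => ht'1 (congrArg Subtype.val h).symm⟩
    have hmem := hu ▸ Finset.mem_univ (⟨s, hs⟩ : T)
    simp only [Finset.mem_insert, Finset.mem_singleton, Subtype.ext_iff] at hmem
    rcases hmem with h | h | h | h
    · exact absurd h hs1
    all_goals rw [show s = _ from h]
    exacts [hCK, hCt, hCt']
  -- `T` is a self-normalising Sylow subgroup of `K`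
  have hTp : IsPGroup 2 T := IsPGroup.of_card (n := 2) (by rw [hT4]; norm_num)
  obtain ⟨TK, hTK'⟩ := (hTp.of_equiv (Subgroup.subgroupOfEquivOfLe hTK).symm).exists_le_sylow
  have hTKeq : T.subgroupOf K = (TK : Subgroup K) := by
    refine le_antisymm hTK' fun a ha => ?_
    have hnt : Nontrivial (TK : Subgroup K) :=
      ⟨⟨⟨z, hTK hzT⟩, hTK' hzT⟩, 1, fun h => hz1 (congrArg (fun w : (TK : Subgroup K) => ((w : K) : G)) h)⟩
    have := TK.isPGroup'.center_nontrivial
    obtain ⟨w, hw⟩ := exists_ne (1 : Subgroup.center (TK : Subgroup K))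
    have hcomm : ∀ b : (TK : Subgroup K), Commute (((b : K)) : G) (((w : (TK : Subgroup K)) : K) : G) := fun b =>
      congrArg (fun v : (TK : Subgroup K) => ((v : K) : G)) (Subgroup.mem_center_iff.1 w.2 b)
    have hwT := hall z hzT hz1 _ ((w : (TK : Subgroup K)) : K).2 (hcomm ⟨⟨z, hTK hzT⟩, hTK' hzT⟩).symm
    have hw1 : (((w : (TK : Subgroup K)) : K) : G) ≠ 1 := fun h => hw (Subtype.ext (Subtype.ext (Subtype.ext h)))
    exact hall _ hwT hw1 _ a.2 (hcomm ⟨a, ha⟩)
  have hNT : Subgroup.normalizer ((TK : Subgroup K) : Set K) ≤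
      Subgroup.centralizer ((TK : Subgroup K) : Set K) := by
    intro n hn
    have hnT' : ∀ a ∈ T, (n : G) * a * (n : G)⁻¹ ∈ T := fun a ha => by
      have h1 := (Subgroup.mem_normalizer_iff.1 hn ⟨a, hTK ha⟩).1 (hTKeq ▸ ha)
      rw [← hTKeq] at h1
      exact h1
    suffices hnT : (n : G) ∈ T by
      refine Subgroup.mem_centralizer_iff.2 fun a ha => Subtype.ext ?_
      have haT : (a : G) ∈ T := by rw [SetLike.mem_coe, ← hTKeq] at ha; exact ha
      exact hTcomm _ haT _ hnT
    set s := (n : G) * z * (n : G)⁻¹ with hs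
    by_cases hsz : s = z
    · exact hCK _ n.2 (mul_inv_eq_iff_eq_mul.1 hsz)
    have hsT : s ∈ T := hnT' z hzT
    have hs1 : s ≠ 1 := fun h => hz1 (conj_eq_one_iff.1 h)
    set s' := (n : G) * s * (n : G)⁻¹ with hs'
    have hs'T : s' ∈ T := hnT' s hsT
    by_cases hs'z : s' = z
    · -- `z * s` is fixed
      refine hall (z * s) (mul_mem hzT hsT) (fun h => hsz ?_) _ n.2 ?_
      · rw [eq_inv_of_mul_eq_one_right h, inv_eq_of_mul_eq_one_right hz]
      · refine mul_inv_eq_iff_eq_mul.1 ?_
        rw [show (n : G) * (z * s) * (n : G)⁻¹ = s * s' from conj_mul.symm, hs'z]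
        exact hTcomm _ hsT _ hzT
    -- a three-cycle
    have hs's : s' ≠ s := fun h => hsz (mul_left_cancel (mul_right_cancel h))
    set s'' := (n : G) * s' * (n : G)⁻¹ with hs''
    have hs''T : s'' ∈ T := hnT' s' hs'T
    have hs''z : s'' = z := by
      by_contra h
      have := Fintype.ofFinite T
      have h5 : ({1, ⟨z, hzT⟩, ⟨s, hsT⟩, ⟨s', hs'T⟩, ⟨s'', hs''T⟩} : Finset T).card = 5 := by
        have hs'1 : s' ≠ 1 := fun h => hs1 (conj_eq_one_iff.1 h)
        have hs''1 : s'' ≠ 1 := fun h => hs'1 (conj_eq_one_iff.1 h)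
        have hs''s : s'' ≠ s := fun h => hs'z (mul_left_cancel (mul_right_cancel h))
        have hs''s' : s'' ≠ s' := fun h => hs's (mul_left_cancel (mul_right_cancel h))
        rw [Finset.card_insert_of_notMem, Finset.card_insert_of_notMem, Finset.card_insert_of_notMem,
          Finset.card_pair] <;> simp only [Finset.mem_insert, Finset.mem_singleton, Subtype.ext_iff, not_or, ne_eq]
        · exact fun e => hs''s' e.symm
        · exact ⟨fun e => hs's e.symm, fun e => hs''s e.symm⟩
        · exact ⟨fun e => hsz e.symm, fun e => hs'z e.symm, fun e => h e.symm⟩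
        · exact ⟨fun e => hz1 e.symm, fun e => hs1 e.symm, fun e => hs'1 e.symm, fun e => hs''1 e.symm⟩
      have := Finset.card_le_univ ({1, ⟨z, hzT⟩, ⟨s, hsT⟩, ⟨s', hs'T⟩, ⟨s'', hs''T⟩} : Finset T)
      rw [h5, ← Nat.card_eq_fintype_card, hT4] at this
      omega
    have h3 : (n : G) ^ 3 ∈ T := hCK _ (pow_mem n.2 3) (mul_inv_eq_iff_eq_mul.1 (by
      rw [show (n : G) ^ 3 * z * ((n : G) ^ 3)⁻¹ = (n : G) * ((n : G) * ((n : G) * z * (n : G)⁻¹) * (n : G)⁻¹) *
          (n : G)⁻¹ by simp [pow_succ, mul_assoc, _root_.mul_inv_rev], ← hs, ← hs', ← hs'']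
      exact hs''z))
    have h6 : (n : G) ^ 6 = 1 := by rw [show 6 = 3 + 3 by norm_num, pow_add]; exact hTsq _ h3
    have hn2 : (n : G) ^ 2 = 1 := by
      rw [← orderOf_dvd_iff_pow_eq_one]
      have h6' : orderOf (n : G) ∣ 2 * 3 := orderOf_dvd_of_pow_eq_one h6
      refine Nat.Coprime.dvd_of_dvd_mul_right ?_ h6'
      rw [Subgroup.orderOf_coe, Nat.coprime_comm, Nat.prime_three.coprime_iff_not_dvd]
      exact fun hd => hK3 (hd.trans (orderOf_dvd_natCard _))
    rwa [pow_succ, hn2, one_mul] at h3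
  set R := (MonoidHom.transferSylow TK hNT).ker
  have hRT : ∀ r ∈ R, (r : G) ∈ T → r = 1 := fun r hr hrT => by
    have h2 : r ∈ (TK : Subgroup K) := hTKeq ▸ hrT
    exact Subgroup.mem_bot.1 (disjoint_iff.1 (MonoidHom.ker_transferSylow_disjoint TK hNT TK TK.isPGroup') ▸
      (⟨hr, h2⟩ : r ∈ R ⊓ (TK : Subgroup K)))
  have hR1 : Nat.card R = 1 := by
    have hinv : ∀ s ∈ T, s ≠ 1 → ∀ r : R, s * ((r : K) : G) * s⁻¹ = (((r⁻¹ : R) : K) : G) := by
      intro s hs hs1
      have hsK : (⟨s, hTK hs⟩ : K) * ⟨s, hTK hs⟩ = 1 := Subtype.ext (hTsq s hs)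
      let φ : MulAut R := MulAut.conjNormal (⟨s, hTK hs⟩ : K)
      have hfree : MonoidHom.FixedPointFree φ := fun r hr => by
        refine Subtype.ext (hRT _ r.2 (hall s hs hs1 _ (r : K).2 ?_))
        exact (mul_inv_eq_iff_eq_mul.1 (congrArg (fun w : R => ((w : K) : G)) hr)).symm
      have hinvo : Function.Involutive φ := fun r => by
        show (φ * φ) r = r
        rw [show φ * φ = 1 from (map_mul _ _ _).symm.trans ((congrArg _ hsK).trans (map_one _))]
        rfl
      intro r
      exact congrArg (fun w : R => ((w : K) : G)) (congrFun (hfree.coe_eq_inv_of_involutive hinvo) r)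
    refine Nat.card_eq_one_iff_unique.2 ⟨⟨fun a b => ?_⟩, ⟨1⟩⟩
    have h1 : ∀ r : R, r = 1 := fun r => by
      have e1 := hinv z hzT hz1 r
      have e2 := hinv t htT ht1 r
      have hzt : z * t ≠ 1 := fun h => hne (by
        show t = z
        rw [eq_inv_of_mul_eq_one_right h, inv_eq_of_mul_eq_one_right hz])
      have e3 := hinv (z * t) (mul_mem hzT htT) hzt r
      have hfix : z * t * ((r : K) : G) * (z * t)⁻¹ = (r : K) := by
        rw [show z * t * ((r : K) : G) * (z * t)⁻¹ = z * (t * ((r : K) : G) * t⁻¹) * z⁻¹ by group, e2,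
          Subgroup.coe_inv, Subgroup.coe_inv, ← conj_inv, e1]
        simp
      refine Subtype.ext (hRT _ r.2 (hall (z * t) (mul_mem hzT htT) hzt _ (r : K).2 ?_))
      exact (mul_inv_eq_iff_eq_mul.1 hfix).symm
    rw [h1 a, h1 b]
  have hK4 : Nat.card K = 4 := by
    have h := (MonoidHom.ker_transferSylow_isComplement' TK hNT).card_mul_card
    rw [hR1, one_mul, ← hTKeq, Nat.card_congr (Subgroup.subgroupOfEquivOfLe hTK).toEquiv, hT4] at h
    exact h.symm
  refine not_card_85680 hg fun l hl a w ha haw => ?_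
  have hl' : l.Prime := by rcases hl with rfl | rfl <;> norm_num
  constructor
  · intro hw
    obtain ⟨q, hq⟩ := isConj_iff.1 (Blocks.SemiOrder.isConj_involutions X.nonab X.qd hw X.order_z)
    have hmem : q * a * q⁻¹ ∈ Cz := by
      refine Subgroup.mem_centralizer_singleton_iff.2 ?_
      have := (haw.symm.map (MulAut.conj q)).eq
      simp only [MulAut.conj_apply, hq] at this
      exact this
    have h1 := orderOf_dvd_natCard (⟨_, hmem⟩ : Cz)
    rw [Subgroup.orderOf_mk, ← MulAut.conj_apply, MulEquiv.orderOf_eq, ha, ← hcdef, hc240] at h1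
    rcases hl with rfl | rfl <;> norm_num at h1
  · intro hw
    obtain ⟨P₁, hP₁⟩ := (IsPGroup.of_card (G := Subgroup.zpowers x) (p := 3) (n := 1)
      (by rw [Nat.card_zpowers, hxo, pow_one])).exists_le_sylow
    obtain ⟨P₂, hP₂⟩ := (IsPGroup.of_card (G := Subgroup.zpowers w) (p := 3) (n := 1)
      (by rw [Nat.card_zpowers, hw, pow_one])).exists_le_sylow
    obtain ⟨q, hq⟩ := MulAction.exists_smul_eq G P₂ P₁
    have hwP : q * w * q⁻¹ ∈ (P₁ : Subgroup G) := by
      rw [← hq, Sylow.coe_subgroup_smul]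
      exact ⟨w, hP₂ (Subgroup.mem_zpowers w), by simp⟩
    have : IsCyclic (P₁ : Subgroup G) := X.hyp.odd 3 Nat.prime_three (by norm_num) _ P₁.isPGroup'
    let _ : CommGroup (P₁ : Subgroup G) := IsCyclic.commGroup
    have hcomm : Commute (q * w * q⁻¹) x :=
      congrArg Subtype.val (mul_comm (⟨_, hwP⟩ : (P₁ : Subgroup G)) ⟨x, hP₁ (Subgroup.mem_zpowers x)⟩)
    have hxw : x ∈ Subgroup.zpowers (q * w * q⁻¹) := X.hyp.mem_zpowers (l := 3) Nat.prime_three (by norm_num)
      (by rw [← MulAut.conj_apply, MulEquiv.orderOf_eq, hw]) hxo hcomm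
    have hmem : q * a * q⁻¹ ∈ D := by
      refine Subgroup.mem_centralizer_singleton_iff.2 ?_
      obtain ⟨i, hi⟩ := Subgroup.mem_zpowers_iff.1 hxw
      rw [← hi]
      exact ((haw.symm.map (MulAut.conj q)).zpow_right i).eq
    have h1 := orderOf_dvd_natCard (⟨_, hmem⟩ : D)
    rw [Subgroup.orderOf_mk, ← MulAut.conj_apply, MulEquiv.orderOf_eq, ha, hDcard, hK4] at h1
    rcases hl with rfl | rfl <;> norm_num at h1

end CfsgLib.AlmostCyclic.Exclusion
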