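import Cfsg.Agent.Lib.AlmostCyclic.Aut
import Cfsg.Agent.Lib.Classical.SLGroup
import Cfsg.Agent.Lib.Classical.SL2Trace

/-!
# Involutory automorphisms of `SL(2, p)` fixing an element of odd order (owner: helper7)

If the fixed element is unipotent, or lies in the torus whose order is divisible by four, then a
square root of `-1` is fixed as well.
-/

set_option autoImplicit false

namespace CfsgLib.AlmostCyclic.Exclusion

open Matrix CfsgLib.Known.AutPSL

variable {p : ℕ} [Fact p.Prime]

theorem center_sq {x : Matrix.SpecialLinearGroup (Fin 2) (ZMod p)}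
    (hx : x ∈ Subgroup.center (Matrix.SpecialLinearGroup (Fin 2) (ZMod p))) : x * x = 1 := by
  obtain ⟨r, hr, hrx⟩ := Matrix.SpecialLinearGroup.mem_center_iff.1 hx
  apply Subtype.ext
  rw [Matrix.SpecialLinearGroup.coe_mul, ← hrx, ← map_mul, ← pow_two, ← Fintype.card_fin 2, hr, map_one]
  rfl

theorem transvection_pow {i j : Fin 2} (hij : i ≠ j) (c : ZMod p) :
    ∀ k : ℕ, (Matrix.SpecialLinearGroup.transvection hij c) ^ k = Matrix.SpecialLinearGroup.transvection hij (k * c) := by
  intro k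
  induction k with
  | zero =>
    rw [pow_zero]
    apply Subtype.ext
    show (1 : Matrix (Fin 2) (Fin 2) (ZMod p)) = Matrix.transvection i j ((0 : ℕ) * c)
    simp [Matrix.transvection]
  | succ k ih =>
    rw [pow_succ, ih]
    apply Subtype.ext
    show Matrix.transvection i j ((k : ZMod p) * c) * Matrix.transvection i j c =
      Matrix.transvection i j (((k + 1 : ℕ) : ZMod p) * c)
    rw [Matrix.transvection_mul_transvection_same i j hij]
    congr 1
    push_cast
    ring

/-- Every automorphism of `SL(2, p)` is the conjugation by an invertible matrix. -/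
theorem exists_gl (hp2 : p ≠ 2) (α : MulAut (Matrix.SpecialLinearGroup (Fin 2) (ZMod p))) :
    ∃ g : GL (Fin 2) (ZMod p), ∀ s, (g : Matrix (Fin 2) (Fin 2) (ZMod p)) * s.1 = (α s).1 * g.1 := by
  let β : MulAut (PSL 2 (ZMod p)) := QuotientGroup.congr _ _ α (map_center_eq α)
  obtain ⟨g, hg⟩ := CfsgLib.AlmostCyclic.innDiag_surjective β
  have hd : ∀ s, α s * (slConjHom g (RingEquiv.refl (ZMod p)) s)⁻¹ ∈
      Subgroup.center (Matrix.SpecialLinearGroup (Fin 2) (ZMod p)) := fun s => by
    have h := congrArg (fun γ : MulAut (PSL 2 (ZMod p)) => γ (proj 2 (ZMod p) s)) hg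
    simp only [innDiag_apply, semilin_proj] at h
    have h' : proj 2 (ZMod p) (slConjHom g (RingEquiv.refl (ZMod p)) s) = proj 2 (ZMod p) (α s) := h
    rw [← QuotientGroup.eq_one_iff]
    show proj 2 (ZMod p) (α s * (slConjHom g (RingEquiv.refl (ZMod p)) s)⁻¹) = 1
    rw [map_mul, map_inv, h', mul_inv_cancel]
  let δ : Matrix.SpecialLinearGroup (Fin 2) (ZMod p) →* Matrix.SpecialLinearGroup (Fin 2) (ZMod p) :=
    { toFun := fun s => α s * (slConjHom g (RingEquiv.refl (ZMod p)) s)⁻¹
      map_one' := by simp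
      map_mul' := fun s t => by
        rw [map_mul, map_mul, _root_.mul_inv_rev, ← mul_assoc (α s * α t), mul_assoc (α s) (α t),
          mul_assoc (α s), ← Subgroup.mem_center_iff.1 (hd t) _, ← mul_assoc] }
  have hδ : δ.ker = ⊤ := by
    refine CfsgLib.Classical.closure_transvection_eq_top _ fun i j hij c => ?_
    have h2 : δ (Matrix.SpecialLinearGroup.transvection hij c) * δ (Matrix.SpecialLinearGroup.transvection hij c) = 1 :=
      center_sq (hd _)
    have hp : δ (Matrix.SpecialLinearGroup.transvection hij c) ^ p = 1 := by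
      rw [← map_pow, transvection_pow, ZMod.natCast_self, zero_mul, ← zero_mul c, ← Nat.cast_zero,
        ← transvection_pow hij c 0, pow_zero, map_one]
    have hodd : p % 2 = 1 := Nat.odd_iff.1 ((Fact.out : p.Prime).odd_of_ne_two hp2)
    rw [MonoidHom.mem_ker]
    obtain ⟨q, hq⟩ : ∃ q, p = 2 * q + 1 := ⟨p / 2, by omega⟩
    have h3 : δ (Matrix.SpecialLinearGroup.transvection hij c) ^ (2 * q + 1) = 1 := hq ▸ hp
    rwa [pow_succ, pow_mul, pow_two, h2, one_pow, one_mul] at h3
  refine ⟨g, fun s => ?_⟩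
  have h1 : δ s = 1 := MonoidHom.mem_ker.1 (hδ ▸ Subgroup.mem_top s)
  have h2 : α s = slConjHom g (RingEquiv.refl (ZMod p)) s := mul_inv_eq_one.1 h1
  rw [h2, coe_slConjHom]
  simp [mul_assoc]

/-- What commutes with a non-scalar matrix is a linear combination of it and `1`. -/
theorem exists_combination {F : Type*} [Field F] {y M : Matrix (Fin 2) (Fin 2) F}
    (hy : ¬ (y 0 1 = 0 ∧ y 1 0 = 0 ∧ y 0 0 = y 1 1)) (h : M * y = y * M) :
    ∃ a b : F, M = a • 1 + b • y := by
  have h00 := congrFun (congrFun h 0) 0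
  have h01 := congrFun (congrFun h 0) 1
  have h10 := congrFun (congrFun h 1) 0
  simp only [Matrix.mul_apply, Fin.sum_univ_two] at h00 h01 h10
  by_cases e1 : y 0 1 = 0
  · by_cases e2 : y 1 0 = 0
    · have e3 : y 0 0 - y 1 1 ≠ 0 := fun e => hy ⟨e1, e2, sub_eq_zero.1 e⟩
      refine ⟨M 0 0 - (M 0 0 - M 1 1) / (y 0 0 - y 1 1) * y 0 0, (M 0 0 - M 1 1) / (y 0 0 - y 1 1), ?_⟩
      simp only [e1, e2] at h01 h10
      have m01 : M 0 1 = 0 := mul_left_cancel₀ e3 (by linear_combination -h01)
      have m10 : M 1 0 = 0 := mul_left_cancel₀ e3 (by linear_combination h10)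
      ext i j
      fin_cases i <;> fin_cases j <;> simp [e1, e2, m01, m10]
      field_simp
      ring
    · refine ⟨M 0 0 - M 1 0 / y 1 0 * y 0 0, M 1 0 / y 1 0, ?_⟩
      simp only [e1] at h00 h10
      ext i j
      fin_cases i <;> fin_cases j <;> simp [e1]
      · exact (mul_eq_zero.1 (show M 0 1 * y 1 0 = 0 by linear_combination h00)).resolve_right e2
      · field_simp
      · field_simp
        linear_combination h10
  · refine ⟨M 0 0 - M 0 1 / y 0 1 * y 0 0, M 0 1 / y 0 1, ?_⟩
    ext i j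
    fin_cases i <;> fin_cases j <;> simp
    · field_simp
    · field_simp
      linear_combination -h00
    · field_simp
      linear_combination -h01

theorem nonscalar {y : Matrix.SpecialLinearGroup (Fin 2) (ZMod p)} (hy : y * y ≠ 1) :
    ¬ (y.1 0 1 = 0 ∧ y.1 1 0 = 0 ∧ y.1 0 0 = y.1 1 1) := fun h =>
  hy (center_sq (by
    by_contra hc
    exact CfsgLib.Classical.Trace.not_isScalar_iff_not_mem_center.2 hc h))

/-- The transform of an element under a matrix commuting with it is the element. -/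
theorem fixed_of_commute {α : MulAut (Matrix.SpecialLinearGroup (Fin 2) (ZMod p))} {g : GL (Fin 2) (ZMod p)}
    (hg : ∀ s, (g : Matrix (Fin 2) (Fin 2) (ZMod p)) * s.1 = (α s).1 * g.1)
    {i : Matrix.SpecialLinearGroup (Fin 2) (ZMod p)} (h : g.1 * i.1 = i.1 * g.1) : α i = i := by
  refine Subtype.ext (g.isUnit.mul_right_cancel ?_)
  rw [← hg i, h]

/-- **A fixed square root of `-1`.** -/
theorem exists_fixed_root (hp2 : p ≠ 2) {α : MulAut (Matrix.SpecialLinearGroup (Fin 2) (ZMod p))} (hα : α * α = 1)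
    {y : Matrix.SpecialLinearGroup (Fin 2) (ZMod p)} {l : ℕ} (hl : l.Prime) (hl2 : l ≠ 2) (hy : orderOf y = l)
    (hfix : α y = y) (hcase : l = p ∨ (p % 4 = 1 ∧ l ∣ p - 1) ∨ (p % 4 = 3 ∧ l ∣ p + 1)) :
    ∃ i : Matrix.SpecialLinearGroup (Fin 2) (ZMod p), i * i = -1 ∧ α i = i := by
  classical
  obtain ⟨g, hg⟩ := exists_gl hp2 α
  set G : Matrix (Fin 2) (Fin 2) (ZMod p) := g.1 with hGdef
  set Y : Matrix (Fin 2) (Fin 2) (ZMod p) := y.1 with hYdef
  have hGY : G * Y = Y * G := by rw [hg y, hfix]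
  have hy2 : y * y ≠ 1 := fun e => by
    have := orderOf_le_of_pow_eq_one two_pos (pow_two y ▸ e)
    rw [hy] at this
    have := hl.two_le
    omega
  have hns := nonscalar hy2
  obtain ⟨a, b, hab⟩ : ∃ a b : ZMod p, G = a • 1 + b • Y := exists_combination hns hGY
  set t := CfsgLib.Classical.Trace.trc y with ht
  have hYY : Y * Y = t • Y - 1 := CfsgLib.Classical.Trace.sq_eq y
  have hchar : CharP (Matrix (Fin 2) (Fin 2) (ZMod p)) p := inferInstance
  have : Fact p.Prime := ‹_›
  have hyl : y ^ l = 1 := hy ▸ pow_orderOf_eq_one y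
  by_cases hlp : l = p
  · -- unipotent
    subst hlp
    have ht2 : t = 2 := by
      have h1 : (Y - 1) ^ l = 0 := by
        rw [sub_pow_char_of_commute _ (Commute.one_right Y), one_pow, hYdef,
          ← Matrix.SpecialLinearGroup.coe_pow, hyl, Matrix.SpecialLinearGroup.coe_one, sub_self]
      have h2 : (Y - 1) * (Y - 1) = (t - 2) • Y := by
        rw [sub_mul, mul_sub, mul_one, one_mul, hYY]
        module
      have h3 : ((t - 2) • Y) ^ l = 0 := by rw [← h2, (Commute.refl _).mul_pow, h1, zero_mul]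
      rw [smul_pow, hYdef, ← Matrix.SpecialLinearGroup.coe_pow, hyl, Matrix.SpecialLinearGroup.coe_one] at h3
      have h4 := congrFun (congrFun h3 0) 0
      simp only [Matrix.smul_apply, Matrix.one_apply_eq, smul_eq_mul, mul_one, Matrix.zero_apply] at h4
      exact sub_eq_zero.1 (eq_zero_of_pow_eq_zero h4)
    have hGG : G * G = (a ^ 2 - b ^ 2) • (1 : Matrix (Fin 2) (Fin 2) (ZMod l)) + (2 * b * (a + b)) • Y := by
      rw [hab]
      simp only [mul_add, add_mul, smul_mul_assoc, mul_smul_comm, one_mul, mul_one, smul_smul, hYY, ht2]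
      module
    have hcen : ∀ s : Matrix.SpecialLinearGroup (Fin 2) (ZMod l), G * G * s.1 = s.1 * (G * G) := fun s => by
      have h1 : α (α s) = s := by rw [← MulAut.mul_apply, hα, MulAut.one_apply]
      rw [mul_assoc, hg s, ← mul_assoc, hg (α s), h1, mul_assoc]
    let u : Matrix.SpecialLinearGroup (Fin 2) (ZMod l) := ⟨!![1, 0; 1, 1], by simp [Matrix.det_fin_two_of]⟩
    let v : Matrix.SpecialLinearGroup (Fin 2) (ZMod l) := ⟨!![1, 1; 0, 1], by simp [Matrix.det_fin_two_of]⟩
    have h01 : (G * G) 0 1 = 0 := by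
      have := congrFun (congrFun (hcen u) 0) 0
      simpa [u, Matrix.mul_apply, Fin.sum_univ_two] using this
    have h10 : (G * G) 1 0 = 0 := by
      have := congrFun (congrFun (hcen v) 1) 1
      simpa [v, Matrix.mul_apply, Fin.sum_univ_two] using this
    have hoff : Y 0 1 ≠ 0 ∨ Y 1 0 ≠ 0 := by
      by_contra hc
      push Not at hc
      obtain ⟨e1, e2⟩ := hc
      have hd : Y 0 0 * Y 1 1 - Y 0 1 * Y 1 0 = 1 := CfsgLib.Classical.Trace.det_eq y
      rw [e1, e2] at hd
      have htr : Y 0 0 + Y 1 1 = 2 := ht2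
      have e3 : (Y 0 0 - 1) ^ 2 = 0 := by linear_combination -hd + (Y 0 0) * htr
      have e4 : Y 0 0 = 1 := sub_eq_zero.1 (eq_zero_of_pow_eq_zero e3)
      exact hns ⟨e1, e2, show Y 0 0 = Y 1 1 by linear_combination 2 * e4 - htr⟩
    have hb : 2 * b * (a + b) = 0 := by
      rw [hGG] at h01 h10
      simp at h01 h10
      rcases hoff with h | h
      · rcases h01 with e | e
        · rcases e with e | e <;> simp [e]
        · exact absurd e h
      · rcases h10 with e | e
        · rcases e with e | e <;> simp [e]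
        · exact absurd e h
    have h2ne : (2 : ZMod l) ≠ 0 := by
      have : ((2 : ℕ) : ZMod l) ≠ 0 := by
        rw [Ne, ZMod.natCast_eq_zero_iff]
        intro h; exact hl2 ((Nat.prime_dvd_prime_iff_eq hl Nat.prime_two).1 h)
      simpa using this
    rcases mul_eq_zero.1 hb with hb' | hb'
    · have hb0 : b = 0 := (mul_eq_zero.1 hb').resolve_left h2ne
      refine ⟨⟨!![0, 1; -1, 0], by simp [Matrix.det_fin_two_of]⟩, ?_, fixed_of_commute hg ?_⟩
      · apply Subtype.ext
        show (!![0, 1; -1, 0] : Matrix (Fin 2) (Fin 2) (ZMod l)) * !![0, 1; -1, 0] = -1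
        ext i j
        fin_cases i <;> fin_cases j <;> simp [Matrix.mul_apply, Fin.sum_univ_two]
      · show G * !![0, 1; -1, 0] = !![0, 1; -1, 0] * G
        rw [hab, hb0, zero_smul, add_zero, smul_mul_assoc, mul_smul_comm, one_mul, mul_one]
    · exfalso
      have hGu : IsUnit G := g.isUnit
      have hae : G = b • (Y - 1) := by rw [hab, eq_neg_of_add_eq_zero_left hb']; module
      have h0 : G.det = 0 := by
        rw [hae, Matrix.det_smul, Matrix.det_fin_two]
        simp only [Matrix.sub_apply, Matrix.one_apply_eq, ne_eq, zero_ne_one, not_false_eq_true,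
          Matrix.one_apply_ne, sub_zero, one_ne_zero]
        have hd : Y 0 0 * Y 1 1 - Y 0 1 * Y 1 0 = 1 := CfsgLib.Classical.Trace.det_eq y
        have htr : Y 0 0 + Y 1 1 = 2 := ht2
        linear_combination (b ^ Fintype.card (Fin 2)) * hd - (b ^ Fintype.card (Fin 2)) * htr
      exact ((Matrix.isUnit_iff_isUnit_det G).1 hGu).ne_zero h0
  · -- semisimple
    have hcase' := hcase.resolve_left hlp
    set Dm : Matrix (Fin 2) (Fin 2) (ZMod p) := Y - (y⁻¹).1 with hDm
    have hinv : (y⁻¹).1 = t • (1 : Matrix (Fin 2) (Fin 2) (ZMod p)) - Y := by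
      rw [Matrix.SpecialLinearGroup.coe_inv, Matrix.adjugate_fin_two]
      ext i j
      fin_cases i <;> fin_cases j <;> simp [ht, CfsgLib.Classical.Trace.trc, hYdef]
    have hD : Dm = (2 : ZMod p) • Y - t • 1 := by rw [hDm, hinv]; module
    set s := t ^ 2 - 4 with hs
    have hDD : Dm * Dm = s • 1 := by
      rw [hD]
      simp only [mul_sub, sub_mul, smul_mul_assoc, mul_smul_comm, one_mul, mul_one, smul_smul, hYY]
      rw [hs]
      module
    have h2ne : (2 : ZMod p) ≠ 0 := by
      have : ((2 : ℕ) : ZMod p) ≠ 0 := by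
        rw [Ne, ZMod.natCast_eq_zero_iff]
        intro h; exact hp2 ((Nat.prime_dvd_prime_iff_eq Fact.out Nat.prime_two).1 h)
      simpa using this
    obtain ⟨ε, hε, hDp⟩ : ∃ ε : ZMod p, ((p % 4 = 1 ∧ ε = 1) ∨ (p % 4 = 3 ∧ ε = -1)) ∧ Dm ^ p = ε • Dm := by
      have hcomm : Commute Y (y⁻¹).1 := by
        show Y * (y⁻¹).1 = (y⁻¹).1 * Y
        rw [hYdef, ← Matrix.SpecialLinearGroup.coe_mul, ← Matrix.SpecialLinearGroup.coe_mul, mul_inv_cancel, inv_mul_cancel]
      rcases hcase' with ⟨h4, hd⟩ | ⟨h4, hd⟩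
      · obtain ⟨c, hc⟩ := hd
        have hpc : y ^ p = y := by
          have e : y ^ p = y ^ (l * c + 1) := congrArg (y ^ ·) (by have := (Fact.out : p.Prime).one_le; omega)
          rw [e, pow_succ, pow_mul, hyl, one_pow, one_mul]
        refine ⟨1, Or.inl ⟨h4, rfl⟩, ?_⟩
        rw [one_smul, hDm, sub_pow_char_of_commute _ hcomm, hYdef, ← Matrix.SpecialLinearGroup.coe_pow,
          ← Matrix.SpecialLinearGroup.coe_pow, inv_pow, hpc]
      · obtain ⟨c, hc⟩ := hd
        have hpc : y ^ p = y⁻¹ := eq_inv_of_mul_eq_one_left (by rw [← pow_succ, hc, pow_mul, hyl, one_pow])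
        refine ⟨-1, Or.inr ⟨h4, rfl⟩, ?_⟩
        rw [hDm, sub_pow_char_of_commute _ hcomm, hYdef, ← Matrix.SpecialLinearGroup.coe_pow,
          ← Matrix.SpecialLinearGroup.coe_pow, inv_pow, hpc, inv_inv]
        module
    have hD0 : Dm ≠ 0 := fun e => by
      rw [hD, sub_eq_zero] at e
      have e00 := congrFun (congrFun e 0) 0
      have e01 := congrFun (congrFun e 0) 1
      have e10 := congrFun (congrFun e 1) 0
      have e11 := congrFun (congrFun e 1) 1
      simp [h2ne] at e00 e01 e10 e11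
      exact hns ⟨e01, e10, mul_left_cancel₀ h2ne (e00.trans e11.symm)⟩
    have hsp : s ^ (p / 2) = ε := by
      have hodd : p % 2 = 1 := Nat.odd_iff.1 ((Fact.out : p.Prime).odd_of_ne_two hp2)
      rw [show Dm ^ p = Dm ^ (2 * (p / 2) + 1) by congr 1; omega, pow_succ, pow_mul, pow_two, hDD, smul_pow,
        one_pow, smul_mul_assoc, one_mul] at hDp
      by_contra hne
      exact hD0 ((smul_eq_zero.1 (show (s ^ (p / 2) - ε) • Dm = 0 by rw [sub_smul, hDp, sub_self])).resolve_left
        (sub_ne_zero.2 hne))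
    have hp2' : 1 ≤ p / 2 := by have := (Fact.out : p.Prime).two_le; omega
    have hs0 : s ≠ 0 := fun e => by
      rw [e, zero_pow (by omega)] at hsp
      rcases hε with ⟨-, e'⟩ | ⟨-, e'⟩ <;> rw [e'] at hsp <;> simp at hsp
    obtain ⟨μ, hμ⟩ : IsSquare (-s) := by
      rw [ZMod.euler_criterion p (neg_ne_zero.2 hs0), neg_pow, hsp]
      rcases hε with ⟨h4, e⟩ | ⟨h4, e⟩ <;> rw [e]
      · rw [Even.neg_one_pow (Nat.even_iff.2 (by omega)), one_mul]
      · rw [Odd.neg_one_pow (Nat.odd_iff.2 (by omega))]; ring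
    have hμ0 : μ ≠ 0 := fun e => hs0 (by rw [e, mul_zero] at hμ; exact neg_eq_zero.1 hμ)
    have hls : μ⁻¹ * μ⁻¹ * s = -1 := by
      field_simp
      linear_combination -hμ
    refine ⟨⟨μ⁻¹ • Dm, ?_⟩, ?_, fixed_of_commute hg ?_⟩
    · rw [Matrix.det_smul, Fintype.card_fin, hD, Matrix.det_fin_two]
      have hd : Y 0 0 * Y 1 1 - Y 0 1 * Y 1 0 = 1 := CfsgLib.Classical.Trace.det_eq y
      have htr : Y 0 0 + Y 1 1 = t := rfl
      simp
      linear_combination (4 * μ⁻¹ * μ⁻¹) * hd - (2 * μ⁻¹ * μ⁻¹ * t) * htr - hls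
    · apply Subtype.ext
      show (μ⁻¹ • Dm) * (μ⁻¹ • Dm) = -1
      rw [smul_mul_assoc, mul_smul_comm, smul_smul, hDD, smul_smul, hls, neg_one_smul]
    · show G * (μ⁻¹ • Dm) = (μ⁻¹ • Dm) * G
      rw [hD]
      simp only [mul_sub, sub_mul, smul_mul_assoc, mul_smul_comm, one_mul, mul_one, hGY]

end CfsgLib.AlmostCyclic.Exclusion
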