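import Cfsg.Agent.Lib.AlmostCyclic.Exclusion.Arith
import Cfsg.Agent.Lib.AlmostCyclic.Exclusion.Exception
import Cfsg.Agent.Lib.AlmostCyclic.Exclusion.Fixed
import Cfsg.Agent.Lib.Blocks.WreathedOrder.Assembly
import Cfsg.Agent.Lib.Blocks.WLocal.Core
import Cfsg.Agent.Lib.GW.Deps.QDCentralizer
import Cfsg.Agent.Lib.Classical.SL2Sylow

/-!
# Regularity at the primes of the involution centraliser (owner: helper7)

The hypotheses of the arithmetic lemma hold, so one family of orders remains.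
-/

set_option autoImplicit false

namespace CfsgLib.AlmostCyclic.Exclusion

open Cfsg CfsgLib
open scoped _root_.Classical MatrixGroups

variable {G : Type*} [Group G] [Fintype G]

/-- The situation: a simple group, its semidihedral Sylow subgroup and the data of the centraliser. -/
structure Ctx {z : G} (M : Ideal AlgInt) (m : ℕ) (Q : ℤ) (p : ℕ) [Fact p.Prime] (S : Sylow 2 G)
    (ρ : Blocks.SemiOrder.R m → Subgroup.centralizer ({z} : Set G))
    (τ : Subgroup.centralizer ({z} : Set G)) (st : Subgroup.centralizer ({z} : Set G) → ℂ) : Prop where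
  simple : IsSimpleGroup G
  nonab : ¬ IsMulCommutative G
  hyp : Hyp G
  qd : IsQuasiDihedral (S : Subgroup G)
  order_z : orderOf z = 2
  central : ∀ s ∈ (S : Subgroup G), s * z = z * s
  modular : IsPModular 2 M
  loc : Blocks.SemiOrder.Loc M m Q ρ τ st
  rho_half : (ρ (Blocks.SemiOrder.half m) : G) = z
  mem : ∀ g : Subgroup.centralizer ({z} : Set G), (g : G) ∈ S ↔ ∃ i, g = ρ i ∨ g = ρ i * τ
  tau_ne : ∀ i, τ ≠ ρ i
  odd_p : p ≠ 2
  abs_Q : Q.natAbs = p
  normal_sl : ∃ N : Subgroup (Subgroup.centralizer ({z} : Set G) ⧸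
      oddCore (Subgroup.centralizer ({z} : Set G))), N.Normal ∧ Nonempty (N ≃* SL(2, ZMod p))

variable {z : G} {M : Ideal AlgInt} [M.IsPrime] {m : ℕ} {Q : ℤ} {p : ℕ} [Fact p.Prime] {S : Sylow 2 G}
  {ρ : Blocks.SemiOrder.R m → Subgroup.centralizer ({z} : Set G)}
  {τ : Subgroup.centralizer ({z} : Set G)} {st : Subgroup.centralizer ({z} : Set G) → ℂ}

theorem val_of_sylow {X : Type*} [Group X] [Finite X] {l k : ℕ} [Fact l.Prime] (P : Sylow l X)
    (h : Nat.card P = l ^ k) : padicValNat l (Nat.card X) = k := by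
  rw [P.card_eq_multiplicity, Nat.factorization_def _ Fact.out] at h
  exact Nat.pow_right_injective (Fact.out : l.Prime).two_le h

theorem injOn_core {X : Type*} [Group X] [Finite X] {T : Subgroup X} (hT : IsPGroup 2 T) {a b : X} (ha : a ∈ T)
    (hb : b ∈ T) (h : (a : X ⧸ oddCore X) = b) : a = b :=
  congrArg Subtype.val (GW.Deps.QDCentralizer.injective_mod_core T hT
    (a₁ := ⟨a, ha⟩) (a₂ := ⟨b, hb⟩) h)

variable (X : Ctx M m Q p S ρ τ st)
include X

theorem Ctx.card_sylow : Nat.card (S : Subgroup G) = 2 ^ (m + 4) := by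
  obtain ⟨f, hr, hs⟩ := X.loc.exists_hom
  have hmem : ∀ v, ((f v : Subgroup.centralizer ({z} : Set G)) : G) ∈ (S : Subgroup G) := fun v => by
    obtain ⟨a, e⟩ := v
    refine (X.mem _).2 ⟨a, ?_⟩
    cases e
    · exact Or.inl (hr a)
    · exact Or.inr (hs a)
  let g : TwoGroups.SemiDihedral m → (S : Subgroup G) := fun v => ⟨_, hmem v⟩
  have hg : Function.Bijective g := by
    refine ⟨?_, fun ⟨w, hw⟩ => ?_⟩
    · rintro ⟨a, e⟩ ⟨b, e'⟩ h
      have h' : f ⟨a, e⟩ = f ⟨b, e'⟩ := Subtype.ext (congrArg (fun y : (S : Subgroup G) => (y : G)) h)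
      cases e <;> cases e'
      · rw [show f ⟨a, false⟩ = ρ a from hr a, show f ⟨b, false⟩ = ρ b from hr b] at h'
        rw [X.loc.inj h']
      · rw [show f ⟨a, false⟩ = ρ a from hr a, show f ⟨b, true⟩ = ρ b * τ from hs b] at h'
        refine absurd ?_ (X.tau_ne (-b + a))
        rw [X.loc.map_add, h', ← mul_assoc, ← X.loc.map_add, neg_add_cancel, X.loc.rho_zero, one_mul]
      · rw [show f ⟨a, true⟩ = ρ a * τ from hs a, show f ⟨b, false⟩ = ρ b from hr b] at h'
        refine absurd ?_ (X.tau_ne (-a + b))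
        rw [X.loc.map_add, ← h', ← mul_assoc, ← X.loc.map_add, neg_add_cancel, X.loc.rho_zero, one_mul]
      · rw [show f ⟨a, true⟩ = ρ a * τ from hs a, show f ⟨b, true⟩ = ρ b * τ from hs b] at h'
        rw [X.loc.inj (mul_right_cancel h')]
    · obtain ⟨i, hi | hi⟩ := (X.mem ⟨w, Subgroup.mem_centralizer_singleton_iff.2 (X.central w hw)⟩).1 hw
      · exact ⟨TwoGroups.SemiDihedral.rot i, Subtype.ext (congrArg Subtype.val ((hr i).trans hi.symm) : (f _ : G) = w)⟩
      · exact ⟨TwoGroups.SemiDihedral.ref i, Subtype.ext (congrArg Subtype.val ((hs i).trans hi.symm) : (f _ : G) = w)⟩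
  rw [← Nat.card_congr (Equiv.ofBijective g hg), TwoGroups.SemiDihedral.natCard]

theorem Ctx.val_two :
    padicValNat 2 (Nat.card (Subgroup.centralizer ({z} : Set G))) = m + 4 ∧ padicValNat 2 (Nat.card G) = m + 4 ∧
      padicValNat 2 (Nat.card (Subgroup.centralizer ({τ} : Set (Subgroup.centralizer ({z} : Set G))))) = 2 := by
  have : Fact (Nat.Prime 2) := ⟨Nat.prime_two⟩
  refine ⟨val_of_sylow (Blocks.WreathedOrder.sylowIn S z X.central) ?_, val_of_sylow S X.card_sylow, ?_⟩
  · rw [← X.card_sylow]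
    exact Nat.card_congr (Subgroup.subgroupOfEquivOfLe fun s hs =>
      Subgroup.mem_centralizer_singleton_iff.2 (X.central s hs)).toEquiv
  · obtain ⟨N, -, hodd, hidx⟩ := X.loc.tau_complement
    rw [← N.card_mul_index, hidx, padicValNat.mul Nat.card_pos.ne' four_ne_zero,
      padicValNat.eq_zero_of_not_dvd hodd, zero_add, show (4 : ℕ) = 2 ^ 2 by norm_num, padicValNat.prime_pow]

/-- An involution of the centraliser other than `z` has a centraliser of the same order as `τ`. -/
theorem Ctx.card_centralizer_invol {t : Subgroup.centralizer ({z} : Set G)} (ht : t * t = 1) (ht1 : t ≠ 1)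
    (htz : (t : G) ≠ z) :
    Nat.card (Subgroup.centralizer ({t} : Set (Subgroup.centralizer ({z} : Set G)))) =
      Nat.card (Subgroup.centralizer ({τ} : Set (Subgroup.centralizer ({z} : Set G)))) := by
  rcases X.loc.involution_cases ht ht1 with e | e
  · exact absurd (by rw [e, X.rho_half]) htz
  · obtain ⟨c, rfl⟩ := isConj_iff.1 e
    refine (Nat.card_congr ?_).symm
    refine (MulAut.conj c).toEquiv.subtypeEquiv fun a => ?_
    show a ∈ Subgroup.centralizer ({τ} : Set _) ↔ c * a * c⁻¹ ∈ Subgroup.centralizer ({c * τ * c⁻¹} : Set _)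
    rw [Subgroup.mem_centralizer_singleton_iff, Subgroup.mem_centralizer_singleton_iff,
      show c * a * c⁻¹ * (c * τ * c⁻¹) = c * (a * τ) * c⁻¹ by group,
      show c * τ * c⁻¹ * (c * a * c⁻¹) = c * (τ * a) * c⁻¹ by group, mul_left_inj, mul_right_inj]

/-- The regularity at an odd prime. -/
theorem Ctx.exception {l : ℕ} (hl : l.Prime) (hl2 : l ≠ 2)
    (hd : l ∣ Nat.card (Subgroup.centralizer ({z} : Set G))) :
    padicValNat l (Nat.card G) = padicValNat l (Nat.card (Subgroup.centralizer ({z} : Set G))) ∨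
      (l = 3 ∧ padicValNat l (Nat.card G) = padicValNat l (Nat.card (Subgroup.centralizer ({z} : Set G))) + 1 ∧
        padicValNat l (Nat.card (Subgroup.centralizer ({τ} : Set (Subgroup.centralizer ({z} : Set G))))) =
          padicValNat l (Nat.card (Subgroup.centralizer ({z} : Set G)))) := by
  have := Fact.mk hl
  set vc := padicValNat l (Nat.card (Subgroup.centralizer ({z} : Set G)))
  set vg := padicValNat l (Nat.card G)
  have hle : vc ≤ vg := (padicValNat_dvd_iff_le Nat.card_pos.ne').1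
    (pow_padicValNat_dvd.trans (Subgroup.card_subgroup_dvd_card _))
  rcases hle.eq_or_lt with e | hlt
  · exact Or.inl e.symm
  right
  have hz : z * z = 1 := by rw [← pow_two, ← X.order_z, pow_orderOf_eq_one]
  have hz1 : z ≠ 1 := fun e => by simpa [e] using X.order_z
  obtain ⟨x, T, y, -, -, -, -, hzT, h4, hsq, hyo, hyN, hne⟩ := exists_four X.hyp hz hz1 hl2 hd hlt
  let β : MulAut T := T.normalizerMonoidHom ⟨y, hyN⟩
  have hβ : ∀ t : T, ((β t : T) : G) = y * t * y⁻¹ := fun t => rfl
  have hβo : orderOf β ∣ l ^ vg := by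
    refine (orderOf_map_dvd T.normalizerMonoidHom _).trans ?_
    rw [Subgroup.orderOf_mk, hyo]
  set z₁ : T := ⟨z, hzT⟩
  have hz₁ : z₁ ≠ 1 := fun e => hz1 (congrArg Subtype.val e)
  set z₂ := β z₁
  set z₃ := β z₂
  have h12 : z₂ ≠ z₁ := fun e => hne (by rw [← hβ z₁]; exact congrArg Subtype.val e)
  have hodd : Odd (orderOf β) := ((hl.odd_of_ne_two hl2).pow).of_dvd_nat hβo
  have h31 : z₃ ≠ z₁ := by
    intro e
    obtain ⟨k, hk⟩ := hodd
    have h1 : ∀ j : ℕ, (β ^ (2 * j)) z₁ = z₁ := fun j => by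
      induction j with
      | zero => simp
      | succ j ih => rw [show 2 * (j + 1) = 2 * j + 2 by ring, pow_add, MulAut.mul_apply, pow_two,
          MulAut.mul_apply, show β (β z₁) = z₁ from e, ih]
    have h2 := congrArg (fun γ : MulAut T => γ z₁) (pow_orderOf_eq_one β)
    simp only [hk, pow_succ', MulAut.mul_apply, h1, MulAut.one_apply] at h2
    exact h12 h2
  have hz₂ : z₂ ≠ 1 := fun e => hz₁ (β.injective (e.trans (map_one β).symm))
  have hz₃ : z₃ ≠ 1 := fun e => hz₂ (β.injective (e.trans (map_one β).symm))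
  have h23 : z₃ ≠ z₂ := fun e => h12 (β.injective e)
  have hall : ∀ t : T, t = 1 ∨ t = z₁ ∨ t = z₂ ∨ t = z₃ := by
    have := Fintype.ofFinite T
    have hu : ({1, z₁, z₂, z₃} : Finset T) = Finset.univ := by
      refine Finset.eq_univ_of_card _ ?_
      rw [← Nat.card_eq_fintype_card, h4, Finset.card_insert_of_notMem, Finset.card_insert_of_notMem,
        Finset.card_pair h23.symm]
      · simp [Ne.symm h12, Ne.symm h31]
      · simp [Ne.symm hz₁, Ne.symm hz₂, Ne.symm hz₃]
    intro t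
    have := hu ▸ Finset.mem_univ t
    simpa using this
  have h41 : β z₃ = z₁ := by
    rcases hall (β z₃) with e | e | e | e
    · exact absurd (β.injective (e.trans (map_one β).symm)) hz₃
    · exact e
    · exact absurd (β.injective e) h31
    · exact absurd (β.injective e) h23
  have hb3 : β ^ 3 = 1 := by
    ext t
    rw [pow_succ, pow_two, MulAut.mul_apply, MulAut.mul_apply, MulAut.one_apply]
    rcases hall t with rfl | rfl | rfl | rfl
    · simp only [map_one]
    all_goals simp only [show β z₁ = z₂ from rfl, show β z₂ = z₃ from rfl, h41]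
  have hl3 : l = 3 := by
    have h1 : orderOf β = 3 := orderOf_eq_prime hb3 fun e => h12 (by
      show β z₁ = z₁
      rw [e]; rfl)
    rw [h1] at hβo
    exact ((Nat.prime_dvd_prime_iff_eq Nat.prime_three hl).1 (Nat.prime_three.dvd_of_dvd_pow hβo)).symm
  subst hl3
  -- `y ^ 3` centralises the four-group
  have hy3 : ∀ t : T, Commute (y ^ 3) (t : G) := fun t => by
    have h1 := congrArg (fun γ : MulAut T => ((γ t : T) : G)) hb3
    simp only [pow_succ, pow_zero, one_mul, MulAut.mul_apply, hβ, MulAut.one_apply] at h1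
    refine mul_inv_eq_iff_eq_mul.1 ?_
    rw [show y ^ 3 * (t : G) * (y ^ 3)⁻¹ = y * (y * (y * t * y⁻¹) * y⁻¹) * y⁻¹ by
      simp [pow_succ, mul_assoc, _root_.mul_inv_rev], h1]
  let t : Subgroup.centralizer ({z} : Set G) := ⟨(z₂ : G), Subgroup.mem_centralizer_singleton_iff.2 (by
    have := hsq (z₂ * z₁ : T) (z₂ * z₁).2
    rw [Subgroup.coe_mul] at this
    rw [eq_inv_of_mul_eq_one_left this, _root_.mul_inv_rev, inv_eq_of_mul_eq_one_right (hsq _ z₁.2),
      inv_eq_of_mul_eq_one_right (hsq _ z₂.2)])⟩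
  have hu := X.card_centralizer_invol (t := t) (Subtype.ext (hsq _ z₂.2))
    (fun e => hz₂ (Subtype.ext (congrArg (fun w : Subgroup.centralizer ({z} : Set G) => (w : G)) e)))
    (fun e => h12 (Subtype.ext e))
  let y3 : Subgroup.centralizer ({z} : Set G) := ⟨y ^ 3, Subgroup.mem_centralizer_singleton_iff.2 (hy3 z₁).eq⟩
  have hy3t : y3 ∈ Subgroup.centralizer ({t} : Set (Subgroup.centralizer ({z} : Set G))) :=
    Subgroup.mem_centralizer_singleton_iff.2 (Subtype.ext (hy3 z₂).eq)
  have hord : orderOf y3 = 3 ^ (vg - 1) := by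
    rw [← Subgroup.orderOf_coe, orderOf_pow' y three_ne_zero, hyo,
      Nat.gcd_eq_right (dvd_pow_self 3 (by omega))]
    show 3 ^ vg / 3 = 3 ^ (vg - 1)
    obtain ⟨k, hk⟩ : ∃ k, vg = k + 1 := ⟨vg - 1, by omega⟩
    rw [hk, pow_succ, Nat.mul_div_cancel _ (by norm_num), Nat.add_sub_cancel]
  have h1 : vg - 1 ≤ padicValNat 3
      (Nat.card (Subgroup.centralizer ({τ} : Set (Subgroup.centralizer ({z} : Set G))))) := by
    rw [← hu]
    refine (padicValNat_dvd_iff_le Nat.card_pos.ne').1 ?_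
    rw [← hord, ← Subgroup.orderOf_mk y3 hy3t]
    exact orderOf_dvd_natCard _
  have h2 : padicValNat 3 (Nat.card (Subgroup.centralizer ({τ} : Set (Subgroup.centralizer ({z} : Set G))))) ≤ vc :=
    (padicValNat_dvd_iff_le Nat.card_pos.ne').1 (pow_padicValNat_dvd.trans (Subgroup.card_subgroup_dvd_card _))
  exact ⟨rfl, by omega, by omega⟩

/-- The image of `τ` lies outside the normal `SL₂`. -/
theorem Ctx.tau_notMem {N : Subgroup (Subgroup.centralizer ({z} : Set G) ⧸
    oddCore (Subgroup.centralizer ({z} : Set G)))} [N.Normal] (e : N ≃* SL(2, ZMod p)) :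
    QuotientGroup.mk' (oddCore (Subgroup.centralizer ({z} : Set G))) τ ∉ N := by
  intro hmem
  set π := QuotientGroup.mk' (oddCore (Subgroup.centralizer ({z} : Set G)))
  have h2 : (2 : ZMod p) ≠ 0 := by
    intro h
    have h' : ((2 : ℕ) : ZMod p) = 0 := by exact_mod_cast h
    rw [ZMod.natCast_eq_zero_iff] at h'
    exact X.odd_p ((Nat.prime_dvd_prime_iff_eq Fact.out Nat.prime_two).1 h')
  -- an involution of the normal `SL₂` is central
  have hcent : ∀ g, g * π τ * g⁻¹ = π τ := by
    intro g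
    have key : ∀ w ∈ N, w * w = 1 → w = 1 ∨ w = ((e.symm (-1) : N) : _) := fun w hw hww => by
      rcases Blocks.WLocal.sl_involution h2 (x := e ⟨w, hw⟩)
        (by rw [← map_mul, show (⟨w, hw⟩ : N) * ⟨w, hw⟩ = 1 from Subtype.ext hww, map_one]) with e1 | e1
      · exact Or.inl (congrArg Subtype.val (e.injective (e1.trans (map_one e).symm)))
      · right; rw [← e1, MulEquiv.symm_apply_apply]
    have hsq : π τ * π τ = 1 := by rw [← map_mul, X.loc.tau_sq, map_one]
    have hne : π τ ≠ 1 := fun h => X.loc.tau_ne_one (injOn_core (Blocks.WreathedOrder.sylowIn S z X.central).2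
      ((X.mem τ).2 ⟨0, Or.inr (by rw [X.loc.rho_zero, one_mul])⟩) (one_mem _) h)
    rw [(key _ hmem hsq).resolve_left hne]
    refine (key _ (‹N.Normal›.conj_mem _ (e.symm (-1)).2 g) ?_).resolve_left fun h => ?_
    · rw [← (key _ hmem hsq).resolve_left hne,
        show g * π τ * g⁻¹ * (g * π τ * g⁻¹) = g * (π τ * π τ) * g⁻¹ by group, hsq]
      group
    · rw [conj_eq_one_iff, ← (key _ hmem hsq).resolve_left hne] at h
      exact hne h
  have h1 := hcent (π (ρ 1))
  have hP : ∀ i, ρ i ∈ (Blocks.WreathedOrder.sylowIn S z X.central :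
      Subgroup (Subgroup.centralizer ({z} : Set G))) := fun i => (X.mem _).2 ⟨i, Or.inl rfl⟩
  rw [mul_inv_eq_iff_eq_mul, ← map_mul, ← map_mul] at h1
  have hτP : τ ∈ (Blocks.WreathedOrder.sylowIn S z X.central :
      Subgroup (Subgroup.centralizer ({z} : Set G))) := (X.mem τ).2 ⟨0, Or.inr (by rw [X.loc.rho_zero, one_mul])⟩
  have h3 := injOn_core (Blocks.WreathedOrder.sylowIn S z X.central).2 (mul_mem (hP 1) hτP) (mul_mem hτP (hP 1)) h1
  have h4 : ρ 1 = ρ (Blocks.SemiOrder.twist m * 1) := by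
    rw [← X.loc.tau_conj, ← h3, mul_inv_cancel_right]
  exact Blocks.SemiOrder.twist_ne (fun h => by
      have := congrArg (fun w => Blocks.SemiOrder.half m * w) h
      simp only [mul_one, mul_zero] at this
      exact Blocks.SemiOrder.isTwist.h_ne this)
    (fun h => by
      have := congrArg (fun w => Blocks.SemiOrder.half m * w) h
      simp only [mul_one, Blocks.SemiOrder.isTwist.h_sq] at this
      exact Blocks.SemiOrder.isTwist.h_ne this) (X.loc.inj h4).symm

/-- `τ` centralises no Sylow subgroup at the unipotent prime and at the primes of `Q + 1`. -/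
theorem Ctx.val_lt {l : ℕ} (hl : l.Prime) (hl2 : l ≠ 2) (hcase : l = p ∨ (l : ℤ) ∣ Q + 1) :
    padicValNat l (Nat.card (Subgroup.centralizer ({τ} : Set (Subgroup.centralizer ({z} : Set G))))) <
      padicValNat l (Nat.card (Subgroup.centralizer ({z} : Set G))) := by
  have := Fact.mk hl
  have : Fact (Nat.Prime 2) := ⟨Nat.prime_two⟩
  by_contra hge
  push Not at hge
  obtain ⟨N, hNn, ⟨e⟩⟩ := X.normal_sl
  set π := QuotientGroup.mk' (oddCore (Subgroup.centralizer ({z} : Set G)))
  have hπ : Function.Surjective π := QuotientGroup.mk'_surjective _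
  have hQ4 : (4 : ℤ) ∣ Q + 1 := (Dvd.intro_left _ (pow_add (2 : ℤ) m 2).symm).trans X.loc.q_dvd
  have hQp : Q = p ∨ Q = -(p : ℤ) := X.abs_Q ▸ Int.natAbs_eq Q
  have hp := (Fact.out : p.Prime)
  have hcase' : l = p ∨ (p % 4 = 1 ∧ l ∣ p - 1) ∨ (p % 4 = 3 ∧ l ∣ p + 1) := by
    refine hcase.imp_right fun hd => ?_
    rcases hQp with rfl | rfl
    · exact Or.inr ⟨by omega, by exact_mod_cast hd⟩
    · refine Or.inl ⟨by omega, ?_⟩
      have h1 : (l : ℤ) ∣ ((p - 1 : ℕ) : ℤ) := by
        rw [Nat.cast_sub hp.one_le, Nat.cast_one]; have := hd.neg_right; rwa [neg_add, neg_neg, ← sub_eq_add_neg] at this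
      exact_mod_cast h1
  have hlN : l ∣ Nat.card N := by
    rw [Nat.card_congr e.toEquiv, Classical.Two.card_SL_two, ZMod.card]
    rcases hcase' with rfl | ⟨-, hd⟩ | ⟨-, hd⟩
    · exact dvd_mul_right _ _
    · exact dvd_mul_of_dvd_right (hd.trans ⟨p + 1, by rw [mul_comm, ← Nat.sq_sub_sq, one_pow]⟩) p
    · exact dvd_mul_of_dvd_right (hd.trans ⟨p - 1, by rw [← Nat.sq_sub_sq, one_pow]⟩) p
  -- a Sylow subgroup of the centraliser of `τ`
  obtain ⟨P₀⟩ := (inferInstance : Nonempty (Sylow l (Subgroup.centralizer ({τ} : Set (Subgroup.centralizer ({z} : Set G))))))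
  set P₁ : Subgroup (Subgroup.centralizer ({z} : Set G)) := (P₀ : Subgroup _).map (Subgroup.centralizer ({τ} : Set (Subgroup.centralizer ({z} : Set G)))).subtype
  obtain ⟨P, hP⟩ := (P₀.isPGroup'.map (Subgroup.centralizer ({τ} : Set (Subgroup.centralizer ({z} : Set G)))).subtype).exists_le_sylow
  have hPeq : P₁ = (P : Subgroup (Subgroup.centralizer ({z} : Set G))) := Subgroup.eq_of_le_of_card_ge hP (by
    rw [Subgroup.card_map_of_injective (Subgroup.centralizer ({τ} : Set (Subgroup.centralizer ({z} : Set G)))).subtype_injective,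
      P₀.card_eq_multiplicity, P.card_eq_multiplicity, Nat.factorization_def _ hl, Nat.factorization_def _ hl]
    exact Nat.pow_le_pow_right hl.pos hge)
  let P' := P.mapSurjective hπ
  have hP'c : ∀ w ∈ (P' : Subgroup ((Subgroup.centralizer ({z} : Set G)) ⧸ oddCore (Subgroup.centralizer ({z} : Set G)))), π τ * w * (π τ)⁻¹ = w := by
    intro w hw
    rw [Sylow.coe_mapSurjective] at hw
    obtain ⟨v, hv, rfl⟩ := hw
    rw [← hPeq] at hv
    obtain ⟨v, -, rfl⟩ := hv
    rw [← map_inv, ← map_mul, ← map_mul]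
    congr 1
    rw [mul_inv_eq_iff_eq_mul]
    exact (Subgroup.mem_centralizer_singleton_iff.1 v.2).symm
  obtain ⟨y₀, hy₀⟩ := exists_prime_orderOf_dvd_card' l hlN
  obtain ⟨R, hR⟩ := (IsPGroup.of_card (G := Subgroup.zpowers (y₀ : (Subgroup.centralizer ({z} : Set G)) ⧸ oddCore (Subgroup.centralizer ({z} : Set G)))) (p := l) (n := 1) (by
    rw [Nat.card_zpowers, Subgroup.orderOf_coe, hy₀, pow_one])).exists_le_sylow
  obtain ⟨a, ha⟩ := MulAction.exists_smul_eq ((Subgroup.centralizer ({z} : Set G)) ⧸ oddCore (Subgroup.centralizer ({z} : Set G))) R P'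
  set y : (Subgroup.centralizer ({z} : Set G)) ⧸ oddCore (Subgroup.centralizer ({z} : Set G)) := a * y₀ * a⁻¹
  have hyP : y ∈ (P' : Subgroup ((Subgroup.centralizer ({z} : Set G)) ⧸ oddCore (Subgroup.centralizer ({z} : Set G)))) := by
    rw [← ha, Sylow.coe_subgroup_smul]
    exact ⟨y₀, hR (Subgroup.mem_zpowers _), by simp [y]⟩
  have hyN : y ∈ N := hNn.conj_mem _ y₀.2 a
  let α : MulAut (SL(2, ZMod p)) := MulAut.congr e (MulAut.conjNormal (π τ))
  have hαapp : ∀ s, α s = e (MulAut.conjNormal (π τ) (e.symm s)) := fun s => rfl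
  have hπτ2 : π τ * π τ = 1 := by rw [← map_mul, X.loc.tau_sq, map_one]
  have hα : α * α = 1 := by
    show MulAut.congr e _ * MulAut.congr e _ = 1
    rw [← map_mul, ← map_mul, hπτ2, map_one, map_one]
  have hyo : orderOf (e ⟨y, hyN⟩) = l := by
    rw [MulEquiv.orderOf_eq, Subgroup.orderOf_mk, show y = MulAut.conj a (y₀ : (Subgroup.centralizer ({z} : Set G)) ⧸ oddCore (Subgroup.centralizer ({z} : Set G))) from rfl,
      MulEquiv.orderOf_eq, Subgroup.orderOf_coe, hy₀]
  have hfix : α (e ⟨y, hyN⟩) = e ⟨y, hyN⟩ := by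
    rw [hαapp, MulEquiv.symm_apply_apply]
    exact congrArg e (Subtype.ext (hP'c y hyP))
  obtain ⟨i, hi, hαi⟩ := exists_fixed_root X.odd_p hα hl hl2 hyo hfix hcase'
  set iC : (Subgroup.centralizer ({z} : Set G)) ⧸ oddCore (Subgroup.centralizer ({z} : Set G)) := ((e.symm i : N) : (Subgroup.centralizer ({z} : Set G)) ⧸ oddCore (Subgroup.centralizer ({z} : Set G)))
  have hcomm : Commute (π τ) iC := by
    have h1 := congrArg (fun s => ((e.symm s : N) : (Subgroup.centralizer ({z} : Set G)) ⧸ oddCore (Subgroup.centralizer ({z} : Set G)))) hαi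
    simp only [hαapp, MulEquiv.symm_apply_apply, MulAut.conjNormal_apply] at h1
    exact mul_inv_eq_iff_eq_mul.1 h1
  have hi2 : iC ^ 2 = ((e.symm (-1) : N) : (Subgroup.centralizer ({z} : Set G)) ⧸ oddCore (Subgroup.centralizer ({z} : Set G))) := by
    rw [pow_two, ← Subgroup.coe_mul, ← map_mul, hi]
  have hio : orderOf iC = 4 := by
    have h1 : orderOf ((e.symm (-1) : N) : (Subgroup.centralizer ({z} : Set G)) ⧸ oddCore (Subgroup.centralizer ({z} : Set G))) = 2 := by
      rw [Subgroup.orderOf_coe, MulEquiv.orderOf_eq]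
      refine orderOf_eq_prime (by rw [pow_two, neg_mul_neg, one_mul]) fun h => ?_
      have h2 := congrArg (fun s : SL(2, ZMod p) => s.1 0 0) h
      simp at h2
      have h3 : ((2 : ℕ) : ZMod p) = 0 := by push_cast; linear_combination -h2
      rw [ZMod.natCast_eq_zero_iff] at h3
      exact X.odd_p ((Nat.prime_dvd_prime_iff_eq hp Nat.prime_two).1 h3)
    rw [show (4 : ℕ) = 2 ^ (1 + 1) by norm_num]
    refine orderOf_eq_prime_pow (fun h => ?_) ?_
    · rw [pow_one, hi2] at h
      rw [h, orderOf_one] at h1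
      omega
    · rw [pow_succ, pow_one, pow_mul, hi2]
      exact orderOf_dvd_iff_pow_eq_one.1 (by rw [h1])
  -- a lift
  let V : Subgroup ((Subgroup.centralizer ({z} : Set G)) ⧸ oddCore (Subgroup.centralizer ({z} : Set G))) := Subgroup.zpowers iC ⊔ Subgroup.zpowers (π τ)
  have hτ2 : IsPGroup 2 (Subgroup.zpowers (π τ)) := by
    obtain ⟨k, -, hk⟩ := (Nat.dvd_prime_pow Nat.prime_two).1
      (orderOf_dvd_of_pow_eq_one (x := π τ) (n := 2 ^ 1) (by rw [pow_one, pow_two, hπτ2]))
    exact IsPGroup.of_card (n := k) (by rw [Nat.card_zpowers, hk])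
  have hV : IsPGroup 2 V := IsPGroup.to_sup_of_normal_left'
    (IsPGroup.of_card (n := 2) (by rw [Nat.card_zpowers, hio]; norm_num)) hτ2 (by
      rw [Subgroup.zpowers_le]
      refine Blocks.WLocal.mem_normalizer_zpowers_of_conj ?_
      rw [hcomm.eq, mul_inv_cancel_right]
      exact Subgroup.mem_zpowers _)
  obtain ⟨k, hk⟩ := IsPGroup.iff_card.1 hV
  have hk3 : 3 ≤ k := by
    by_contra hlt
    have h4 : Nat.card V ≤ Nat.card (Subgroup.zpowers iC) := by
      rw [hk, Nat.card_zpowers, hio, show (4 : ℕ) = 2 ^ 2 by norm_num]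
      exact Nat.pow_le_pow_right two_pos (by omega)
    have hVi := Subgroup.eq_of_le_of_card_ge le_sup_left h4
    refine X.tau_notMem e ?_
    have : π τ ∈ Subgroup.zpowers iC := hVi ▸ Subgroup.mem_sup_right (Subgroup.mem_zpowers _)
    exact (Subgroup.zpowers_le.2 (e.symm i : N).2) this
  set W : Subgroup (Subgroup.centralizer ({z} : Set G)) := V.comap π
  obtain ⟨T⟩ := (inferInstance : Nonempty (Sylow 2 W))
  set T₁ : Subgroup (Subgroup.centralizer ({z} : Set G)) := (T : Subgroup W).map W.subtype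
  have hT₁ : IsPGroup 2 T₁ := T.isPGroup'.map _
  have hT₁c : Nat.card T₁ = 2 ^ k := by
    rw [Subgroup.card_map_of_injective W.subtype_injective, T.card_eq_multiplicity,
      Nat.factorization_def _ Nat.prime_two]
    congr 1
    rw [show Nat.card W = Nat.card (oddCore (Subgroup.centralizer ({z} : Set G))) * Nat.card V from GW.Deps.card_comap_mk (Subgroup.centralizer ({z} : Set G)) (oddCore (Subgroup.centralizer ({z} : Set G))) V, hk,
      padicValNat.mul Nat.card_pos.ne' (by positivity), padicValNat.prime_pow, padicValNat.eq_zero_of_not_dvd,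
      zero_add]
    intro h
    exact absurd (Nat.odd_iff.1 (GW.Deps.odd_card_core (Subgroup.centralizer ({z} : Set G)))) (by omega)
  have himg : T₁.map π = V := by
    refine Subgroup.eq_of_le_of_card_ge ?_ ?_
    · rintro _ ⟨w, ⟨v, -, rfl⟩, rfl⟩
      exact v.2
    · rw [hk, ← hT₁c]
      exact Nat.card_le_card_of_injective (fun w : T₁ => (⟨π w, Subgroup.mem_map_of_mem π w.2⟩ : T₁.map π))
        fun a b h => Subtype.ext (injOn_core hT₁ a.2 b.2 (congrArg Subtype.val h))
  obtain ⟨τ', hτ'T, hτ'⟩ : π τ ∈ T₁.map π := himg ▸ Subgroup.mem_sup_right (Subgroup.mem_zpowers _)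
  have hτ'sq : τ' * τ' = 1 := injOn_core hT₁ (mul_mem hτ'T hτ'T) (one_mem _) (by
    show π (τ' * τ') = π 1
    rw [map_mul, hτ', hπτ2, map_one])
  have hτ'1 : τ' ≠ 1 := fun h => X.tau_notMem e (by
    show π τ ∈ N
    rw [← hτ', h, map_one]; exact one_mem _)
  have hτ'z : (τ' : G) ≠ z := fun h => by
    have h1 : τ' = ρ (Blocks.SemiOrder.half m) := Subtype.ext (h.trans X.rho_half.symm)
    have h2 := injOn_core (Blocks.WreathedOrder.sylowIn S z X.central).2
      ((X.mem τ).2 ⟨0, Or.inr (by rw [X.loc.rho_zero, one_mul])⟩)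
      ((X.mem _).2 ⟨_, Or.inl rfl⟩) (show π τ = π (ρ (Blocks.SemiOrder.half m)) by rw [← hτ', h1])
    exact X.tau_ne _ h2
  have hcent : T₁ ≤ Subgroup.centralizer ({τ'} : Set (Subgroup.centralizer ({z} : Set G))) := by
    intro w hw
    refine Subgroup.mem_centralizer_singleton_iff.2 (injOn_core hT₁ (mul_mem hw hτ'T) (mul_mem hτ'T hw) ?_)
    show π (w * τ') = π (τ' * w)
    rw [map_mul, map_mul, hτ']
    have hwV : π w ∈ V := himg ▸ Subgroup.mem_map_of_mem π hw
    have hle : V ≤ Subgroup.centralizer ({π τ} : Set ((Subgroup.centralizer ({z} : Set G)) ⧸ oddCore (Subgroup.centralizer ({z} : Set G)))) :=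
      sup_le (Subgroup.zpowers_le.2 (Subgroup.mem_centralizer_singleton_iff.2 hcomm.symm.eq))
        (Subgroup.zpowers_le.2 (Subgroup.mem_centralizer_singleton_iff.2 rfl))
    exact Subgroup.mem_centralizer_singleton_iff.1 (hle hwV)
  have h1 := Subgroup.card_dvd_of_le hcent
  rw [hT₁c, X.card_centralizer_invol hτ'sq hτ'1 hτ'z] at h1
  have h2 := (padicValNat_dvd_iff_le Nat.card_pos.ne').1 h1
  rw [X.val_two.2.2] at h2
  omega

/-- **The remaining family.** -/
theorem Ctx.reduce :
    p = 5 ∧ Nat.card G * Nat.card (Subgroup.centralizer ({τ} : Set (Subgroup.centralizer ({z} : Set G)))) ^ 2 * 400 =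
        357 * Nat.card (Subgroup.centralizer ({z} : Set G)) ^ 3 ∧
      padicValNat 3 (Nat.card G) = padicValNat 3 (Nat.card (Subgroup.centralizer ({z} : Set G))) + 1 ∧
      padicValNat 3 (Nat.card (Subgroup.centralizer ({τ} : Set (Subgroup.centralizer ({z} : Set G))))) =
        padicValNat 3 (Nat.card (Subgroup.centralizer ({z} : Set G))) ∧ m = 0 := by
  have := X.simple
  have : Fact (Nat.Prime 2) := ⟨Nat.prime_two⟩
  have hτo : orderOf (τ : G) = 2 := by
    rw [Subgroup.orderOf_coe]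
    exact orderOf_eq_prime (by rw [pow_two, X.loc.tau_sq]) X.loc.tau_ne_one
  obtain ⟨x, a, hx, hx1, hax, h8, hE, hR⟩ := X.loc.equations X.rho_half X.modular X.nonab
    (Blocks.SemiOrder.isConj_involutions X.nonab X.qd X.order_z hτo)
  refine arith X.odd_p (X.abs_Q ▸ Int.natAbs_eq Q) ((Dvd.intro_left _ (pow_add (2 : ℤ) m 2).symm).trans X.loc.q_dvd)
    hx hx1 hax h8 hE Nat.card_pos.ne' Nat.card_pos.ne' Nat.card_pos.ne' hR X.val_two.1 X.val_two.2.1
    X.val_two.2.2 ?_ (fun l hl => ?_) (fun l hl hl2 hd => X.exception hl hl2 hd) fun l hl hl2 h => X.val_lt hl hl2 h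
  · obtain ⟨N, hNn, ⟨e⟩⟩ := X.normal_sl
    refine dvd_trans ?_ (Subgroup.card_quotient_dvd_card (oddCore (Subgroup.centralizer ({z} : Set G))))
    rw [← N.card_mul_index, mul_comm 2, Nat.card_congr e.toEquiv, Classical.Two.card_SL_two, ZMod.card]
    refine mul_dvd_mul_left _ ?_
    rw [Subgroup.index_eq_card]
    have h1 : orderOf (QuotientGroup.mk' N (QuotientGroup.mk' (oddCore (Subgroup.centralizer ({z} : Set G))) τ)) = 2 :=
      orderOf_eq_prime (by rw [← map_pow, ← map_pow, pow_two, X.loc.tau_sq, map_one, map_one])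
        fun h => X.tau_notMem e ((QuotientGroup.eq_one_iff _).1 h)
    exact (dvd_of_eq h1.symm).trans (orderOf_dvd_natCard _)
  · have := Fact.mk hl
    exact (padicValNat_dvd_iff_le Nat.card_pos.ne').1 (pow_padicValNat_dvd.trans (Subgroup.card_subgroup_dvd_card _))

end CfsgLib.AlmostCyclic.Exclusion
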