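import Cfsg.Agent.Lib.AlmostCyclic.Exclusion.Five
import Cfsg.Agent.Lib.Blocks.WreathedOrder.SemiBranch
import Cfsg.Agent.Lib.GW.Final

/-!
# No simple group with almost cyclic Sylow subgroups has semidihedral ones (owner: helper7)
-/

set_option autoImplicit false

namespace CfsgLib.AlmostCyclic

open Cfsg CfsgLib
open scoped _root_.Classical MatrixGroups

universe u

/-- A 2-subgroup that is not trivial has a central involution. -/
theorem exists_central_involution {G : Type*} [Group G] [Finite G] (S : Subgroup G) (hS : IsPGroup 2 S)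
    [Nontrivial S] : ∃ z ∈ S, orderOf z = 2 ∧ ∀ s ∈ S, s * z = z * s := by
  have : Fact (Nat.Prime 2) := ⟨Nat.prime_two⟩
  have := hS.center_nontrivial
  obtain ⟨k, hk⟩ := IsPGroup.iff_card.1 (hS.to_subgroup (Subgroup.center S))
  have h2 : 2 ∣ Nat.card (Subgroup.center S) := by
    have h1 : 1 < Nat.card (Subgroup.center S) := Finite.one_lt_card
    rw [hk] at h1 ⊢
    exact dvd_pow_self 2 fun h => by simp [h] at h1
  obtain ⟨w, hw⟩ := exists_prime_orderOf_dvd_card' 2 h2
  refine ⟨((w : S) : G), (w : S).2, by rw [Subgroup.orderOf_coe, Subgroup.orderOf_coe, hw], fun s hs => ?_⟩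
  exact congrArg Subtype.val (Subgroup.mem_center_iff.1 w.2 ⟨s, hs⟩)

/-- **No semidihedral simple groups with the hypothesis.** -/
theorem noSemidihedral : NoSemidihedral.{u} := by
  suffices h : ∀ (n : ℕ) (G : Type u) [Group G] [Finite G] [IsSimpleGroup G] (_ : ¬ IsMulCommutative G)
      (_ : Hyp G) (S : Sylow 2 G), Nat.card G = n → IsQuasiDihedral (S : Subgroup G) → False from
    fun G _ _ _ hG hH S hS => h _ G hG hH S rfl hS
  intro n
  induction n using Nat.strong_induction_on with
  | h n ih =>
    intro G _ _ hsimp hG hH S hn hS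
    have : Fact (Nat.Prime 2) := ⟨Nat.prime_two⟩
    have := Fintype.ofFinite G
    have hne : Nontrivial (S : Subgroup G) := by
      obtain ⟨m, f, hf, hr⟩ := TwoGroups.SemiDihedral.exists_model hS
      have : Nontrivial (TwoGroups.SemiDihedral m) := Finite.one_lt_card_iff_nontrivial.1 (by
        rw [TwoGroups.SemiDihedral.natCard]; exact Nat.one_lt_pow (by omega) (by norm_num))
      exact (hf.codRestrict (s := ((S : Subgroup G) : Set G)) (fun v => hr ▸ ⟨v, rfl⟩)).nontrivial
    obtain ⟨z, hzS, hz, hzc⟩ := exists_central_involution (S : Subgroup G) S.isPGroup'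
    set C := Subgroup.centralizer ({z} : Set G) with hC
    have := Fintype.ofFinite C
    obtain ⟨F, _, _, hFodd, ⟨e⟩⟩ := GW.Deps.QDCentralizer.centralizer_mod_core GW.Final.gwStatement S
      (Or.inl hS) (fun H => Blocks.SemiOrder.no_index_two hG H) z hz
    have hp : (Fintype.card F).Prime := prime_of_embedding
      ((hH.subgroup C).of_surjective _ (QuotientGroup.mk'_surjective (oddCore C))) hFodd
      ((_root_.commutator (C ⧸ oddCore C)).subtype.comp (e.symm.toMonoidHom.comp (upperUnit F)))
      (Subtype.val_injective.comp (e.symm.injective.comp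
        (Function.Injective.of_comp (upperUnit_proj_injective F))))
    have := Fact.mk hp
    have hp2 : Fintype.card F ≠ 2 := fun h => by rw [h] at hFodd; exact Nat.not_odd_iff_even.2 even_two hFodd
    have h2 : (2 : F) ≠ 0 := fun h => by
      refine hp2 ((Nat.prime_dvd_prime_iff_eq hp Nat.prime_two).1 ?_)
      have := ZMod.ringEquivOfPrime F hp rfl
      rw [← ZMod.natCast_eq_zero_iff]
      apply this.injective
      rw [map_natCast, map_zero]
      exact_mod_cast h
    obtain ⟨M, hM⟩ := CfsgLib.ZStar.exists_isPModular Nat.prime_two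
    have : M.IsPrime := hM.2.1.isPrime
    obtain ⟨m, ρ, τ, hadd, hinj, hτ, hconj, hmem, hτρ, hρz⟩ :=
      Blocks.WreathedOrder.exists_semi_coords hS hz hzS hzc
    have hN : ∃ N : Subgroup (C ⧸ oddCore C), N.Normal ∧ Nonempty (↥N ≃* SL(2, F)) :=
      ⟨_root_.commutator (C ⧸ oddCore C), inferInstance, ⟨e⟩⟩
    obtain ⟨Q, st, L, hQ⟩ := Blocks.WLocal.exists_semi_loc hM h2 hN (Blocks.WreathedOrder.sylowIn S z hzc)
      ρ τ hadd hinj hτ hconj hmem hτρ fun g => Blocks.WreathedOrder.commute_self_centralizer g _ hρz
    have X : Exclusion.Ctx M m Q (Fintype.card F) S ρ τ st :=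
      { simple := hsimp
        nonab := hG
        hyp := hH
        qd := hS
        order_z := hz
        central := hzc
        modular := hM
        loc := by convert L
        rho_half := hρz
        mem := fun g => hmem g
        tau_ne := hτρ
        odd_p := hp2
        abs_Q := hQ
        normal_sl := ⟨_root_.commutator (C ⧸ oddCore C), inferInstance,
          ⟨e.trans (Classical.Dickson.slCongr (ZMod.ringEquivOfPrime F hp rfl)).symm⟩⟩ }
    obtain ⟨h5, heq, hg3, hu3, hm⟩ := X.reduce
    exact X.false_of_five h5 (fun R _ _ _ hR hRH T hlt hT => ih _ (hn ▸ hlt) R hR hRH T rfl hT) hm heq hg3 hu3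

end CfsgLib.AlmostCyclic
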